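import Mathlib
import Cfsg.Prelude.Def_Transfer

/-! Basic facts on extraspecial 2-groups, used for large extraspecial subgroups. -/

set_option autoImplicit false

namespace Cfsg.Agent.H18

variable {E : Type*} [Group E]

/-- An extraspecial 2-group has centre `{1, z}` with `z` an involution. -/
lemma center_eq_pair (hE : Cfsg.IsExtraspecial 2 E) :
    ∃ z : E, z ≠ 1 ∧ z * z = 1 ∧ ∀ x, x ∈ Subgroup.center E ↔ x = 1 ∨ x = z := by
  have h2 : Nat.card (Subgroup.center E) = 2 := hE.2
  obtain ⟨z, hz, huniq⟩ := (Nat.card_eq_two_iff' (1 : Subgroup.center E)).mp h2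
  refine ⟨z, fun h => hz (Subtype.ext h), ?_, fun x => ⟨fun hx => ?_, ?_⟩⟩
  · by_contra h
    have h1 : (z * z : Subgroup.center E) = z := huniq _ (fun h' => h (congrArg Subtype.val h'))
    exact hz (mul_eq_left.mp h1)
  · by_cases hx1 : x = 1
    · exact Or.inl hx1
    · exact Or.inr (congrArg Subtype.val (huniq ⟨x, hx⟩ (fun h => hx1 (congrArg Subtype.val h))))
  · rintro (rfl | rfl)
    · exact one_mem _
    · exact z.2

open scoped commutatorElement

lemma commutator_mem_center (hE : Cfsg.IsExtraspecial 2 E) (x y : E) :
    ⁅x, y⁆ ∈ Subgroup.center E := by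
  rw [← hE.1.2.2, commutator_def]
  exact Subgroup.commutator_mem_commutator trivial trivial

lemma not_center_eq_top [Finite E] (hE : Cfsg.IsExtraspecial 2 E) : Subgroup.center E ≠ ⊤ := by
  intro h
  have h1 : commutator E = ⊤ := hE.1.2.2.trans h
  have h2 : commutator E = ⊥ := by
    rw [commutator_def, eq_bot_iff, Subgroup.commutator_le]
    intro a _ b _
    have hb : b ∈ Subgroup.center E := h ▸ Subgroup.mem_top b
    rw [Subgroup.mem_bot, commutatorElement_eq_one_iff_mul_comm]
    exact (Subgroup.mem_center_iff.mp hb) a
  have h3 := hE.2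
  rw [h, ← h1, h2] at h3
  simp at h3

/-- In an extraspecial 2-group every centralizer has index at most two. -/
lemma index_centralizer_singleton_le [Finite E] (hE : Cfsg.IsExtraspecial 2 E) (x : E) :
    (Subgroup.centralizer ({x} : Set E)).index ≤ 2 := by
  let f : E →* Subgroup.center E :=
    { toFun := fun y => ⟨⁅y, x⁆, commutator_mem_center hE y x⟩
      map_one' := Subtype.ext (by simp [commutatorElement_def])
      map_mul' := fun a b => by
        apply Subtype.ext
        show ⁅a * b, x⁆ = ⁅a, x⁆ * ⁅b, x⁆
        have hb := (Subgroup.mem_center_iff.mp (commutator_mem_center hE b x))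
        have : ⁅a * b, x⁆ = a * ⁅b, x⁆ * a⁻¹ * ⁅a, x⁆ := by
          simp only [commutatorElement_def]; group
        rw [this, hb a, mul_inv_cancel_right, ← hb ⁅a, x⁆] }
  have hk : f.ker = Subgroup.centralizer ({x} : Set E) := by
    ext y
    rw [MonoidHom.mem_ker, Subgroup.mem_centralizer_singleton_iff]
    constructor
    · intro h
      exact commutatorElement_eq_one_iff_mul_comm.mp (congrArg Subtype.val h)
    · intro h
      exact Subtype.ext (commutatorElement_eq_one_iff_mul_comm.mpr h)
  rw [← hk, Subgroup.index_ker]
  calc Nat.card f.range ≤ Nat.card (Subgroup.center E) :=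
        Nat.card_le_card_of_injective _ Subtype.val_injective
    _ = 2 := hE.2

/-- In an extraspecial 2-group `|E : C(H)| * 2 ≤ |H|` for every `H` containing the centre. -/
lemma index_centralizer_mul_le [Finite E] (hE : Cfsg.IsExtraspecial 2 E) (H : Subgroup E)
    (hH : Subgroup.center E ≤ H) :
    (Subgroup.centralizer (H : Set E)).index * 2 ≤ Nat.card H := by
  classical
  have : Fintype E := Fintype.ofFinite E
  suffices h : ∀ S : Finset E, (Subgroup.centralizer (S : Set E)).index * 2 ≤
      Nat.card (Subgroup.closure ((S : Set E) ∪ Subgroup.center E)) by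
    have h2 := h (Finset.univ.filter (· ∈ H))
    have e1 : ((Finset.univ.filter (· ∈ H) : Finset E) : Set E) = H := by ext; simp
    rw [e1] at h2
    have e2 : Subgroup.closure ((H : Set E) ∪ Subgroup.center E) = H := by
      rw [Set.union_eq_left.mpr hH, Subgroup.closure_eq]
    rwa [e2] at h2
  intro S
  induction S using Finset.induction_on with
  | empty =>
    have : Subgroup.centralizer ((∅ : Finset E) : Set E) = ⊤ := by
      ext; simp [Subgroup.mem_centralizer_iff]
    rw [this, Subgroup.index_top, one_mul, Finset.coe_empty, Set.empty_union, Subgroup.closure_eq,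
      hE.2]
  | insert x S _ ih =>
    set T := Subgroup.closure ((S : Set E) ∪ Subgroup.center E)
    set T' := Subgroup.closure ((↑(insert x S) : Set E) ∪ Subgroup.center E)
    have hTT' : T ≤ T' := Subgroup.closure_mono (by intro y hy; simp at hy ⊢; tauto)
    by_cases hx : x ∈ T
    · have hC : Subgroup.centralizer (S : Set E) ≤ Subgroup.centralizer ((↑(insert x S)) : Set E) := by
        intro c hc
        have : T ≤ Subgroup.centralizer ({c} : Set E) := by
          rw [Subgroup.closure_le]
          rintro y (hy | hy)
          · exact Subgroup.mem_centralizer_singleton_iff.mpr (hc y hy)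
          · exact Subgroup.mem_centralizer_singleton_iff.mpr ((Subgroup.mem_center_iff.mp hy c).symm)
        intro y hy
        simp only [Finset.coe_insert, Set.mem_insert_iff] at hy
        rcases hy with rfl | hy
        · exact Subgroup.mem_centralizer_singleton_iff.mp (this hx)
        · exact hc y hy
      calc _ ≤ (Subgroup.centralizer (S : Set E)).index * 2 := by
            gcongr
        _ ≤ Nat.card T := ih
        _ ≤ Nat.card T' := Nat.card_le_card_of_injective _ (Subgroup.inclusion_injective hTT')
    · have hC : Subgroup.centralizer ((↑(insert x S)) : Set E) =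
          Subgroup.centralizer ({x} : Set E) ⊓ Subgroup.centralizer (S : Set E) := by
        ext c
        simp [Subgroup.mem_centralizer_iff]
      have hlt : 2 * Nat.card T ≤ Nat.card T' := by
        have h1 := Subgroup.card_dvd_of_le hTT'
        obtain ⟨k, hk⟩ := h1
        have hne : Nat.card T' ≠ Nat.card T := by
          intro h
          have h' : T = T' := Subgroup.eq_of_le_of_card_ge hTT' h.le
          exact hx (h' ▸ Subgroup.subset_closure (by simp))
        have hpos : 0 < Nat.card T' := Nat.card_pos
        rcases k with _ | _ | k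
        · rw [Nat.mul_zero] at hk; omega
        · exact absurd (by rw [hk, Nat.zero_add, Nat.mul_one]) hne
        · rw [hk]; nlinarith
      rw [hC]
      calc _ ≤ (Subgroup.centralizer ({x} : Set E)).index *
            (Subgroup.centralizer (S : Set E)).index * 2 := by
            gcongr; exact Subgroup.index_inf_le
        _ ≤ 2 * ((Subgroup.centralizer (S : Set E)).index * 2) := by
            rw [mul_assoc]; gcongr; exact index_centralizer_singleton_le hE x
        _ ≤ 2 * Nat.card T := by gcongr
        _ ≤ _ := hlt

end Cfsg.Agent.H18
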