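import Mathlib
import Cfsg.Agent.H18.Extraspecial

/-! Duality between subgroups containing the centre and their centralizers in an extraspecial 2-group. -/

set_option autoImplicit false

namespace Cfsg.Agent.H18

variable {E : Type*} [Group E] [Finite E]

lemma card_centralizer_mul_card_mono (hE : Cfsg.IsExtraspecial 2 E) {T T' : Subgroup E}
    (hTT' : T ≤ T') :
    Nat.card (Subgroup.centralizer (T : Set E)) * Nat.card T ≤
      Nat.card (Subgroup.centralizer (T' : Set E)) * Nat.card T' := by
  by_cases hlt : T = T'
  · rw [hlt]
  obtain ⟨m, hm⟩ : ∃ m, ∀ U : Subgroup E, Nat.card U ≤ m := ⟨Nat.card E, fun U => Subgroup.card_le_card_group U⟩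
  clear hlt
  suffices h : ∀ k, ∀ U : Subgroup E, U ≤ T' → Nat.card E - Nat.card U = k →
      Nat.card (Subgroup.centralizer (U : Set E)) * Nat.card U ≤
        Nat.card (Subgroup.centralizer (T' : Set E)) * Nat.card T' from h _ T hTT' rfl
  intro k
  induction k using Nat.strong_induction_on with
  | _ k ih =>
    intro U hU hk
    by_cases hne : U = T'
    · rw [hne]
    obtain ⟨x, hxT, hxU⟩ := SetLike.exists_of_lt (lt_of_le_of_ne hU hne)
    set U' := U ⊔ Subgroup.zpowers x with hU'
    have hUU' : U ≤ U' := le_sup_left
    have hU'T : U' ≤ T' := sup_le hU (Subgroup.zpowers_le.mpr hxT)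
    have hxU' : x ∈ U' := Subgroup.mem_sup_right (Subgroup.mem_zpowers x)
    obtain ⟨j, hj⟩ := Subgroup.card_dvd_of_le hUU'
    have hcard : 2 * Nat.card U ≤ Nat.card U' := by
      have hneq : Nat.card U' ≠ Nat.card U := fun h => hxU (by
        rw [Subgroup.eq_of_le_of_card_ge hUU' h.le]; exact hxU')
      have hpos : 0 < Nat.card U' := Nat.card_pos
      rcases j with _ | _ | j
      · rw [Nat.mul_zero] at hj; omega
      · exact absurd (by rw [hj, Nat.zero_add, Nat.mul_one]) hneq
      · rw [hj]; nlinarith
    have hC : Subgroup.centralizer (U : Set E) ⊓ Subgroup.centralizer ({x} : Set E) ≤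
        Subgroup.centralizer (U' : Set E) := by
      rintro c ⟨h1, h2⟩
      have hle : U' ≤ Subgroup.centralizer ({c} : Set E) := by
        refine sup_le (fun u hu => Subgroup.mem_centralizer_singleton_iff.mpr (h1 u hu)) ?_
        rw [Subgroup.zpowers_le]
        exact Subgroup.mem_centralizer_singleton_iff.mpr (h2 x rfl)
      exact fun u hu => Subgroup.mem_centralizer_singleton_iff.mp (hle hu)
    have hC2 : Nat.card (Subgroup.centralizer (U : Set E)) ≤
        2 * Nat.card (Subgroup.centralizer (U' : Set E)) := by
      refine le_trans ?_ (Nat.mul_le_mul_left 2 (Nat.card_le_card_of_injective _ (Subgroup.inclusion_injective hC)))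
      have h1 := index_centralizer_singleton_le hE x
      have h2 : (Subgroup.centralizer (U : Set E) ⊓ Subgroup.centralizer ({x} : Set E)).relIndex
          (Subgroup.centralizer (U : Set E)) ≤ 2 := by
        rw [Subgroup.inf_relIndex_left]
        calc (Subgroup.centralizer ({x} : Set E)).relIndex _ ≤
              (Subgroup.centralizer ({x} : Set E)).relIndex ⊤ :=
              Subgroup.relIndex_le_of_le_right le_top (by
                rw [Subgroup.relIndex_top_right]; exact Subgroup.index_ne_zero_of_finite)
          _ ≤ 2 := by rw [Subgroup.relIndex_top_right]; exact h1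
      calc Nat.card (Subgroup.centralizer (U : Set E))
          = (Subgroup.centralizer (U : Set E) ⊓ Subgroup.centralizer ({x} : Set E)).relIndex
              (Subgroup.centralizer (U : Set E)) *
            Nat.card (Subgroup.centralizer (U : Set E) ⊓ Subgroup.centralizer ({x} : Set E) : Subgroup E) := by
            rw [← Subgroup.relIndex_bot_left, ← Subgroup.relIndex_bot_left, mul_comm]
            exact (Subgroup.relIndex_mul_relIndex ⊥ _ _ bot_le inf_le_left).symm
        _ ≤ _ := Nat.mul_le_mul_right _ h2
    have hlt : Nat.card E - Nat.card U' < k := by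
      have := Subgroup.card_le_card_group U'
      have hpos : 0 < Nat.card U := Nat.card_pos
      omega
    calc Nat.card (Subgroup.centralizer (U : Set E)) * Nat.card U
        ≤ 2 * Nat.card (Subgroup.centralizer (U' : Set E)) * Nat.card U := Nat.mul_le_mul_right _ hC2
      _ = Nat.card (Subgroup.centralizer (U' : Set E)) * (2 * Nat.card U) := by ring
      _ ≤ Nat.card (Subgroup.centralizer (U' : Set E)) * Nat.card U' := Nat.mul_le_mul_left _ hcard
      _ ≤ _ := ih _ hlt U' hU'T rfl

/-- `|H| |C(H)| = 2 |E|` for `Z(E) ≤ H ≤ E`, `E` extraspecial of 2-power order. -/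
lemma card_mul_card_centralizer (hE : Cfsg.IsExtraspecial 2 E) (H : Subgroup E)
    (hH : Subgroup.center E ≤ H) :
    Nat.card H * Nat.card (Subgroup.centralizer (H : Set E)) = 2 * Nat.card E := by
  have h1 := card_centralizer_mul_card_mono hE hH
  have h2 := card_centralizer_mul_card_mono hE (le_top : H ≤ ⊤)
  have hz : Subgroup.centralizer ((Subgroup.center E : Subgroup E) : Set E) = ⊤ :=
    eq_top_iff.mpr fun e _ c hc => ((Subgroup.mem_center_iff.mp hc) e).symm
  have ht : Subgroup.centralizer ((⊤ : Subgroup E) : Set E) = Subgroup.center E := by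
    rw [Subgroup.coe_top, Subgroup.centralizer_univ]
  rw [hz, hE.2, Subgroup.card_top] at h1
  rw [ht, hE.2, Subgroup.card_top] at h2
  rw [mul_comm (Nat.card H)]
  exact le_antisymm h2 (by rw [mul_comm 2]; exact h1)

/-- The double centralizer property in an extraspecial 2-group. -/
lemma centralizer_centralizer (hE : Cfsg.IsExtraspecial 2 E) (H : Subgroup E)
    (hH : Subgroup.center E ≤ H) :
    Subgroup.centralizer ((Subgroup.centralizer (H : Set E) : Subgroup E) : Set E) = H := by
  have hle : H ≤ Subgroup.centralizer ((Subgroup.centralizer (H : Set E) : Subgroup E) : Set E) :=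
    fun h hh c hc => (hc h hh).symm
  have h1 := card_mul_card_centralizer hE H hH
  have h2 := card_mul_card_centralizer hE (Subgroup.centralizer (H : Set E))
    (Subgroup.center_le_centralizer _)
  rw [← h1, mul_comm (Nat.card H)] at h2
  exact (Subgroup.eq_of_le_of_card_ge hle (Nat.eq_of_mul_eq_mul_left Nat.card_pos h2).le).symm

end Cfsg.Agent.H18
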