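import Mathlib
import Cfsg.Prelude.Def_Solvable

/-! `O_p(G)` is a normal `p`-subgroup containing every normal `p`-subgroup. -/

set_option autoImplicit false

namespace Cfsg.Agent.H18

open scoped Pointwise

variable {G : Type*} [Group G]

lemma pCore_normal (p : ℕ) : (Cfsg.pCore p G).Normal := by
  refine ⟨fun n hn g => ?_⟩
  have h : (Cfsg.pCore p G).map (MulAut.conj g).toMonoidHom ≤ Cfsg.pCore p G := by
    rw [Cfsg.pCore, sSup_eq_iSup, Subgroup.map_iSup]
    refine iSup_le fun N => ?_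
    rw [Subgroup.map_iSup]
    refine iSup_le fun hN => le_iSup_of_le N (le_iSup_of_le hN ?_)
    rintro _ ⟨x, hx, rfl⟩
    exact hN.1.conj_mem x hx g
  exact h ⟨n, hn, rfl⟩

lemma pCore_le_sylow [Finite G] (p : ℕ) [Fact p.Prime] (P : Sylow p G) : Cfsg.pCore p G ≤ P := by
  refine sSup_le fun N hN => ?_
  obtain ⟨P', hP'⟩ := hN.2.exists_le_sylow
  obtain ⟨g, hg⟩ := MulAction.exists_smul_eq G P' P
  intro x hx
  rw [← hg]
  exact ⟨g⁻¹ * x * g, hP' (by simpa using hN.1.conj_mem x hx g⁻¹), by simp [mul_assoc]⟩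

lemma pCore_isPGroup [Finite G] (p : ℕ) [Fact p.Prime] : IsPGroup p ↥(Cfsg.pCore p G) := by
  obtain ⟨P⟩ := (inferInstance : Nonempty (Sylow p G))
  exact P.isPGroup'.to_le (pCore_le_sylow p P)

lemma le_pCore {p : ℕ} {N : Subgroup G} (h1 : N.Normal) (h2 : IsPGroup p ↥N) :
    N ≤ Cfsg.pCore p G :=
  le_sSup ⟨h1, h2⟩

end Cfsg.Agent.H18
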