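import Cfsg.Agent.H18.LargeExtraspecial
import Cfsg.Agent.H18.Singular.Final
import Cfsg.Agent.H18.Singular.Setting

/-! Criteria for an extraspecial subgroup to be large. -/

set_option autoImplicit false

namespace Cfsg.Agent.H18

open scoped commutatorElement

variable {G : Type*} [Group G]

/-- The singular point given by the first three conditions of largeness. -/
theorem exists_singPt (Q : Subgroup G) (hE : Cfsg.IsExtraspecial 2 ↥Q)
    (hC : Subgroup.centralizer (Q : Set G) = (Subgroup.center ↥Q).map Q.subtype)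
    (hN : Subgroup.centralizer (((Subgroup.center ↥Q).map Q.subtype : Subgroup G) : Set G) ≤
      Subgroup.normalizer (Q : Set G)) :
    ∃ z : G, SingPt Q z ∧ orderOf z = 2 ∧
      (Subgroup.center ↥Q).map Q.subtype = Subgroup.zpowers z := by
  obtain ⟨z, hz1, hz2, hZ, hmem⟩ := centerMap_eq_pair Q hE
  have hzQ := (mem_centerMap_iff Q z).mp ((hmem z).mpr (Or.inr rfl))
  refine ⟨z, ⟨by rw [← pow_two, ← hz2, pow_orderOf_eq_one], hz1, hzQ.1, hE, fun y hy => ?_, hzQ.2,
    fun a ha q hq => ?_⟩, hz2, hZ⟩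
  · exact (hmem y).mp (hC ▸ (fun w hw => hy w hw : y ∈ Subgroup.centralizer (Q : Set G)))
  · refine (Subgroup.mem_normalizer_iff.mp (hN ?_) q).mp hq
    intro w hw
    rcases (hmem w).mp hw with rfl | rfl
    · simp
    · exact ha.symm

namespace SingPt

variable [Finite G] {F : Subgroup G} {z : G}

/-- An element outside the centre is conjugate in `F` to its translate by the central involution. -/
theorem exists_translate (h : SingPt F z) {b : G} (hb : b ∈ F) (hb1 : b ≠ 1) (hbz : b ≠ z) :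
    ∃ u ∈ F, u * b * u⁻¹ = z * b := by
  by_contra hcon
  push Not at hcon
  have hall : ∀ w ∈ F, w * b = b * w := by
    intro w hw
    rcases h.pair (h.comm hw hb) with e | e
    · rwa [mul_inv_eq_one, mul_inv_eq_iff_eq_mul] at e
    · exact absurd (mul_inv_eq_iff_eq_mul.mp e) (hcon w hw)
  rcases h.cent b hall with e | e
  exacts [hb1 e, hbz e]

theorem isPGroup_two (h : SingPt F z) : IsPGroup 2 ↥F := h.ext.1.1

/-- An odd subgroup normalized by `F` is trivial as soon as its elements commuting with some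
non-central involution of `F` commute with `z`. -/
theorem eq_bot_of_centralizer (h : SingPt F z) {b : G} (hb : b ∈ F) (hb1 : b ≠ 1) (hbz : b ≠ z)
    (hbb : b * b = 1) (K : Subgroup G) (hK : Odd (Nat.card K))
    (hF : F ≤ Subgroup.normalizer (K : Set G))
    (hcomm : ∀ k ∈ K, k * b = b * k → k * z = z * k) : K = ⊥ := by
  haveI : Fact (Nat.Prime 2) := ⟨Nat.prime_two⟩
  have hcop : ∀ L : Subgroup G, L ≤ K → (Nat.card F).Coprime (Nat.card L) := by
    intro L hL
    obtain ⟨n, hn⟩ := h.isPGroup_two.exists_card_eq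
    rw [hn]
    exact (Nat.coprime_two_left.mpr (hK.of_dvd_nat (Subgroup.card_dvd_of_le hL))).pow_left n
  set K₀ := K ⊓ Subgroup.centralizer ({z} : Set G) with hK₀
  have hnorm₀ : F ≤ Subgroup.normalizer (K₀ : Set G) := by
    intro q hq
    refine Subgroup.mem_normalizer_iff.mpr fun k => ?_
    have hqz := h.comm_x q hq
    rw [Subgroup.mem_inf, Subgroup.mem_inf, ← Subgroup.mem_normalizer_iff.mp (hF hq) k,
      Subgroup.mem_centralizer_singleton_iff, Subgroup.mem_centralizer_singleton_iff]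
    have hqz' : q⁻¹ * z = z * q⁻¹ := h.comm_x _ (F.inv_mem hq)
    refine and_congr_right fun _ => ⟨fun e => ?_, fun e => ?_⟩
    · calc q * k * q⁻¹ * z = q * k * (q⁻¹ * z) := by group
        _ = q * (k * z) * q⁻¹ := by rw [hqz']; group
        _ = q * (z * k) * q⁻¹ := by rw [e]
        _ = (q * z) * k * q⁻¹ := by group
        _ = z * (q * k * q⁻¹) := by rw [hqz]; group
    · calc k * z = q⁻¹ * ((q * k * q⁻¹) * (q * z)) := by group
        _ = q⁻¹ * ((q * k * q⁻¹ * z) * q) := by rw [hqz]; group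
        _ = q⁻¹ * z * (q * k) := by rw [e]; group
        _ = z * k := by rw [hqz']; group
  have hK₀F : K₀ ≤ Subgroup.normalizer (F : Set G) := by
    intro k hk
    refine Subgroup.mem_normalizer_iff.mpr fun q => ⟨fun hq => ?_, fun hq => ?_⟩
    · exact h.norm k (Subgroup.mem_centralizer_singleton_iff.mp hk.2) q hq
    · have := h.norm k⁻¹ (Subgroup.mem_centralizer_singleton_iff.mp
        ((Subgroup.centralizer ({z} : Set G)).inv_mem hk.2)) _ hq
      simpa [mul_assoc] using this
  have hfix : ∀ k ∈ K, k * z = z * k → k = 1 := by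
    intro k hk hkz
    have hk₀ : k ∈ K₀ := ⟨hk, Subgroup.mem_centralizer_singleton_iff.mpr hkz⟩
    have hc := le_centralizer_of_normalize F K₀ (hcop _ inf_le_left) hnorm₀ hK₀F hk₀
    have h1 : k ∈ F ⊓ K := by
      refine ⟨?_, hk⟩
      rcases h.cent k hc with e | e <;> rw [e]
      exacts [F.one_mem, h.mem]
    rwa [Subgroup.inf_eq_bot_of_coprime (hcop K le_rfl), Subgroup.mem_bot] at h1
  have hinv : ∀ a ∈ F, a * a = 1 → (∀ k ∈ K, k * a = a * k → k = 1) →
      ∀ k ∈ K, a * k * a⁻¹ = k⁻¹ := by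
    intro a ha haa hff k hk
    let φ : K →* K :=
      { toFun := fun k => ⟨a * k * a⁻¹, (Subgroup.mem_normalizer_iff.mp (hF ha) k).mp k.2⟩
        map_one' := Subtype.ext (by simp)
        map_mul' := fun x y => Subtype.ext (by simp [mul_assoc]) }
    have hff' : MonoidHom.FixedPointFree φ := fun k e => Subtype.ext (hff k k.2
      (mul_inv_eq_iff_eq_mul.mp (congrArg Subtype.val e)).symm)
    have hinv' : Function.Involutive φ := fun k => Subtype.ext (by
      show a * (a * k * a⁻¹) * a⁻¹ = k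
      rw [inv_eq_of_mul_eq_one_right haa, ← mul_assoc, ← mul_assoc, haa, one_mul, mul_assoc, haa,
        mul_one])
    exact congrArg Subtype.val
      (congrFun (MonoidHom.FixedPointFree.coe_eq_inv_of_involutive hff' hinv') ⟨k, hk⟩)
  have hfixb : ∀ k ∈ K, k * b = b * k → k = 1 := fun k hk e => hfix k hk (hcomm k hk e)
  obtain ⟨u, hu, he⟩ := h.exists_translate hb hb1 hbz
  rw [eq_bot_iff]
  intro k hk
  rw [Subgroup.mem_bot]
  have h2 : z * b * k * (z * b)⁻¹ = k := by
    calc z * b * k * (z * b)⁻¹ = z * (b * k * b⁻¹) * z⁻¹ := by group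
      _ = (z * k * z⁻¹)⁻¹ := by rw [hinv b hb hbb hfixb k hk]; group
      _ = k := by rw [hinv z h.mem h.xx hfix k hk, inv_inv]
  have hk' : u⁻¹ * k * u ∈ K := (Subgroup.mem_normalizer_iff''.mp (hF hu) k).mp hk
  have h3 := hfixb _ hk' (by
    have h4 : k * (z * b) = z * b * k := (mul_inv_eq_iff_eq_mul.mp h2).symm
    have h5 : b = u⁻¹ * (z * b) * u := by rw [← he]; group
    calc u⁻¹ * k * u * b = u⁻¹ * k * u * (u⁻¹ * (z * b) * u) := by rw [← h5]
      _ = u⁻¹ * (k * (z * b)) * u := by group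
      _ = u⁻¹ * (z * b * k) * u := by rw [h4]
      _ = (u⁻¹ * (z * b) * u) * (u⁻¹ * k * u) := by group
      _ = b * (u⁻¹ * k * u) := by rw [← h5])
  calc k = u * (u⁻¹ * k * u) * u⁻¹ := by group
    _ = 1 := by rw [h3]; group

/-- A `2`-group containing `z` and normalized by `k` forces `k` to commute with `z`. -/
theorem commute_of_twoGroup (h : SingPt F z) {K P : Subgroup G} (hK : Odd (Nat.card K))
    (hF : F ≤ Subgroup.normalizer (K : Set G)) (hP : IsPGroup 2 ↥P) (hzP : z ∈ P) {k : G}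
    (hk : k ∈ K) (hkP : ∀ p ∈ P, k * p * k⁻¹ ∈ P) : k * z = z * k := by
  haveI : Fact (Nat.Prime 2) := ⟨Nat.prime_two⟩
  have hdis : K ⊓ P = ⊥ := Subgroup.inf_eq_bot_of_coprime (by
    obtain ⟨n, hn⟩ := hP.exists_card_eq
    rw [hn]
    exact ((Nat.coprime_two_left.mpr hK).pow_left n).symm)
  have h1 : k * z * k⁻¹ * z⁻¹ ∈ K ⊓ P := by
    refine ⟨?_, P.mul_mem (hkP z hzP) (P.inv_mem hzP)⟩
    have := (Subgroup.mem_normalizer_iff.mp (hF h.mem) k⁻¹).mp (K.inv_mem hk)
    simpa [mul_assoc] using K.mul_mem hk this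
  rw [hdis, Subgroup.mem_bot, mul_inv_eq_one, mul_inv_eq_iff_eq_mul] at h1
  exact h1

end SingPt

/-- The index of the centralizer of a four-group with two transvections in its normalizer. -/
theorem relIndex_four [Finite G] {z b u v : G} (hz : z * z = 1) (hb : b * b = 1) (hz1 : z ≠ 1)
    (hb1 : b ≠ 1) (hzb : z ≠ b) (hc : z * b = b * z)
    (huz : u * z * u⁻¹ = z) (hub : u * b * u⁻¹ = z * b)
    (hvb : v * b * v⁻¹ = b) (hvz : v * z * v⁻¹ = z * b) (V : Subgroup G)
    (hV : ∀ x, x ∈ V ↔ x = 1 ∨ x = z ∨ x = b ∨ x = z * b) :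
    (Subgroup.centralizer (V : Set G)).relIndex (Subgroup.normalizer (V : Set G)) = 6 := by
  classical
  set f := V.normalizerMonoidHom with hf
  have hker : (Subgroup.centralizer (V : Set G)).subgroupOf (Subgroup.normalizer (V : Set G)) = f.ker :=
    (Subgroup.normalizerMonoidHom_ker V).symm
  rw [Subgroup.relIndex, hker, Subgroup.index_ker]
  have hzV : z ∈ V := (hV z).mpr (Or.inr (Or.inl rfl))
  have hbV : b ∈ V := (hV b).mpr (Or.inr (Or.inr (Or.inl rfl)))
  set S : Finset (G × G) :=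
    {(z, b), (z, z * b), (b, z), (b, z * b), (z * b, z), (z * b, b)} with hS
  have hzbz : z * b ≠ z := fun e => hb1 (mul_eq_left.mp e)
  have hzbb : z * b ≠ b := fun e => hz1 (mul_eq_right.mp e)
  have hcard : S.card = 6 := by
    simp [hS, Prod.ext_iff, hzb, hzb.symm, hzbz, hzbz.symm, hzbb, hzbb.symm]
  let ev : f.range → S := fun φ => ⟨((φ : MulAut V) ⟨z, hzV⟩, (φ : MulAut V) ⟨b, hbV⟩), by
    have hne : ∀ {x : G} (hx : x ∈ V), x ≠ 1 → (((φ : MulAut V) ⟨x, hx⟩ : V) : G) ≠ 1 :=
      fun {x} hx h1 e => h1 (congrArg Subtype.val (((φ : MulAut V).map_eq_one_iff).mp (Subtype.ext e)))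
    have hd : (((φ : MulAut V) ⟨z, hzV⟩ : V) : G) ≠ (((φ : MulAut V) ⟨b, hbV⟩ : V) : G) :=
      fun e => hzb (congrArg Subtype.val ((φ : MulAut V).injective (Subtype.ext e)))
    have h1 := ((hV _).mp ((φ : MulAut V) ⟨z, hzV⟩).2).resolve_left (hne hzV hz1)
    have h2 := ((hV _).mp ((φ : MulAut V) ⟨b, hbV⟩).2).resolve_left (hne hbV hb1)
    simp only [hS, Finset.mem_insert, Finset.mem_singleton, Prod.ext_iff]
    rcases h1 with e | e | e <;> rcases h2 with e' | e' | e' <;>
      first | exact absurd (e.trans e'.symm) hd | simp [e, e']⟩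
  have hinj : Function.Injective ev := by
    intro φ ψ h
    simp only [ev, Subtype.mk.injEq, Prod.mk.injEq, SetLike.coe_eq_coe] at h
    apply Subtype.ext
    apply MulEquiv.ext
    rintro ⟨x, hx⟩
    rcases (hV x).mp hx with rfl | rfl | rfl | rfl
    · exact ((φ : MulAut V).map_one).trans (ψ : MulAut V).map_one.symm
    · exact h.1
    · exact h.2
    · have e : (⟨z * b, hx⟩ : V) = ⟨z, hzV⟩ * ⟨b, hbV⟩ := rfl
      rw [e, map_mul, map_mul, h.1, h.2]
  have hN : ∀ n : G, n * z * n⁻¹ ∈ V → n * b * n⁻¹ ∈ V → n ∈ Subgroup.normalizer (V : Set G) := by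
    intro n h1 h2
    have hsub : ∀ x ∈ V, n * x * n⁻¹ ∈ V := by
      intro x hx
      rcases (hV x).mp hx with rfl | rfl | rfl | rfl
      · simp
      · exact h1
      · exact h2
      · have : n * (z * b) * n⁻¹ = (n * z * n⁻¹) * (n * b * n⁻¹) := by group
        rw [this]; exact V.mul_mem h1 h2
    exact Subgroup.mem_normalizer_fintype hsub
  have huN := hN u (by rw [huz]; exact hzV) (by rw [hub]; exact V.mul_mem hzV hbV)
  have hvN := hN v (by rw [hvz]; exact V.mul_mem hzV hbV) (by rw [hvb]; exact hbV)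
  have hsurj : Function.Surjective ev := by
    have key : ∀ n : G, ∀ hn : n ∈ Subgroup.normalizer (V : Set G),
        ∀ p : S, (p : G × G) = (n * z * n⁻¹, n * b * n⁻¹) → ∃ φ, ev φ = p :=
      fun n hn p hp => ⟨⟨f ⟨n, hn⟩, ⟨n, hn⟩, rfl⟩, Subtype.ext hp.symm⟩
    have hbz' : b * (z * b) = z := by rw [hc, ← mul_assoc, hb, one_mul]
    have hzz' : z * (z * b) = b := by rw [← mul_assoc, hz, one_mul]
    have hvzb : v * (z * b) * v⁻¹ = z := by
      calc v * (z * b) * v⁻¹ = (v * z * v⁻¹) * (v * b * v⁻¹) := by group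
        _ = z := by rw [hvz, hvb, mul_assoc, hb, mul_one]
    have huzb : u * (z * b) * u⁻¹ = b := by
      calc u * (z * b) * u⁻¹ = (u * z * u⁻¹) * (u * b * u⁻¹) := by group
        _ = b := by rw [huz, hub, hzz']
    rintro ⟨p, hp⟩
    simp only [hS, Finset.mem_insert, Finset.mem_singleton] at hp
    rcases hp with rfl | rfl | rfl | rfl | rfl | rfl
    · exact key 1 (one_mem _) _ (by simp)
    · exact key u huN _ (by rw [huz, hub])
    · refine key (u * v * u) (mul_mem (mul_mem huN hvN) huN) _ ?_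
      have e1 : u * v * u * z * (u * v * u)⁻¹ = b := by
        calc u * v * u * z * (u * v * u)⁻¹ = u * (v * (u * z * u⁻¹) * v⁻¹) * u⁻¹ := by group
          _ = b := by rw [huz, hvz, huzb]
      have e2 : u * v * u * b * (u * v * u)⁻¹ = z := by
        calc u * v * u * b * (u * v * u)⁻¹ = u * (v * (u * b * u⁻¹) * v⁻¹) * u⁻¹ := by group
          _ = z := by rw [hub, hvzb, huz]
      rw [e1, e2]
    · refine key (u * v) (mul_mem huN hvN) _ ?_
      have e1 : u * v * z * (u * v)⁻¹ = b := by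
        calc u * v * z * (u * v)⁻¹ = u * (v * z * v⁻¹) * u⁻¹ := by group
          _ = b := by rw [hvz, huzb]
      have e2 : u * v * b * (u * v)⁻¹ = z * b := by
        calc u * v * b * (u * v)⁻¹ = u * (v * b * v⁻¹) * u⁻¹ := by group
          _ = z * b := by rw [hvb, hub]
      rw [e1, e2]
    · refine key (v * u) (mul_mem hvN huN) _ ?_
      have e1 : v * u * z * (v * u)⁻¹ = z * b := by
        calc v * u * z * (v * u)⁻¹ = v * (u * z * u⁻¹) * v⁻¹ := by group
          _ = z * b := by rw [huz, hvz]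
      have e2 : v * u * b * (v * u)⁻¹ = z := by
        calc v * u * b * (v * u)⁻¹ = v * (u * b * u⁻¹) * v⁻¹ := by group
          _ = z := by rw [hub, hvzb]
      rw [e1, e2]
    · exact key v hvN _ (by rw [hvz, hvb])
  rw [Nat.card_congr (Equiv.ofBijective ev ⟨hinj, hsurj⟩), Nat.card_eq_fintype_card,
    Fintype.card_coe, hcard]

/-- The members of the four-group generated by two commuting involutions. -/
theorem mem_four [Finite G] {z b : G} (hz : z * z = 1) (hb : b * b = 1) (hc : z * b = b * z) (x : G) :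
    x ∈ Subgroup.zpowers z ⊔ Subgroup.zpowers b ↔ x = 1 ∨ x = z ∨ x = b ∨ x = z * b := by
  constructor
  · intro hx
    set S : Set G := {x | x = 1 ∨ x = z ∨ x = b ∨ x = z * b}
    have hcl : ∀ a ∈ S, ∀ a' ∈ S, a * a' ∈ S := by
      have e1 : z * (z * b) = b := by rw [← mul_assoc, hz, one_mul]
      have e2 : b * (z * b) = z := by rw [hc, ← mul_assoc, hb, one_mul]
      have e3 : z * b * z = b := by rw [hc, mul_assoc, hz, mul_one]
      have e4 : z * b * b = z := by rw [mul_assoc, hb, mul_one]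
      have e5 : z * b * (z * b) = 1 := by rw [mul_assoc, e2, hz]
      intro a ha a' ha'
      rcases ha with rfl | rfl | rfl | rfl <;> rcases ha' with rfl | rfl | rfl | rfl <;>
        simp [S, hz, hb, e1, e2, e3, e4, e5, hc.symm]
    exact sup_le
      (a := Subgroup.zpowers z) (c := subgroupOfMulClosed S (Or.inl rfl) hcl)
      (Subgroup.zpowers_le.mpr (Or.inr (Or.inl rfl)))
      (Subgroup.zpowers_le.mpr (Or.inr (Or.inr (Or.inl rfl)))) hx
  · rintro (rfl | rfl | rfl | rfl)
    · exact one_mem _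
    · exact Subgroup.mem_sup_left (Subgroup.mem_zpowers _)
    · exact Subgroup.mem_sup_right (Subgroup.mem_zpowers _)
    · exact Subgroup.mul_mem_sup (Subgroup.mem_zpowers _) (Subgroup.mem_zpowers _)

end Cfsg.Agent.H18
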