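import Mathlib
import Cfsg.Prelude.Def_MonsterType
import Cfsg.Agent.H18.Extraspecial

/-! Large extraspecial 2-subgroups: the centre and the 2-subgroups above. -/

set_option autoImplicit false

namespace Cfsg.Agent.H18

variable {G : Type*} [Group G]

/-- Membership in the centre of a subgroup, seen in the ambient group. -/
lemma mem_centerMap_iff (Q : Subgroup G) (x : G) :
    x ∈ (Subgroup.center ↥Q).map Q.subtype ↔ x ∈ Q ∧ ∀ y ∈ Q, y * x = x * y := by
  constructor
  · rintro ⟨a, ha, rfl⟩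
    exact ⟨a.2, fun y hy => congrArg Subtype.val (Subgroup.mem_center_iff.mp ha ⟨y, hy⟩)⟩
  · rintro ⟨hx, h⟩
    exact ⟨⟨x, hx⟩, Subgroup.mem_center_iff.mpr fun y => Subtype.ext (h y y.2), rfl⟩

/-- The centre of an extraspecial 2-subgroup is generated by an involution. -/
lemma centerMap_eq_pair (Q : Subgroup G) (hQ : Cfsg.IsExtraspecial 2 ↥Q) :
    ∃ z : G, z ≠ 1 ∧ orderOf z = 2 ∧ (Subgroup.center ↥Q).map Q.subtype = Subgroup.zpowers z ∧
      ∀ x, x ∈ (Subgroup.center ↥Q).map Q.subtype ↔ x = 1 ∨ x = z := by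
  obtain ⟨z, hz1, hzz, hz⟩ := center_eq_pair hQ
  have hz1' : (z : G) ≠ 1 := fun h => hz1 (Subtype.ext h)
  have hord : orderOf (z : G) = 2 :=
    orderOf_eq_prime (by rw [pow_two]; exact congrArg Subtype.val hzz) hz1'
  have hmem : ∀ x, x ∈ (Subgroup.center ↥Q).map Q.subtype ↔ x = 1 ∨ x = (z : G) := by
    intro x
    constructor
    · rintro ⟨a, ha, rfl⟩
      rcases (hz a).mp ha with rfl | rfl
      · left; rfl
      · right; rfl
    · rintro (rfl | rfl)
      · exact one_mem _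
      · exact ⟨z, (hz z).mpr (Or.inr rfl), rfl⟩
  refine ⟨z, hz1', hord, ?_, hmem⟩
  apply le_antisymm
  · intro x hx
    rcases (hmem x).mp hx with rfl | rfl
    · exact one_mem _
    · exact Subgroup.mem_zpowers _
  · exact Subgroup.zpowers_le.mpr ((hmem _).mpr (Or.inr rfl))

/-- If `C(Q) = Z(Q)` for extraspecial `Q ≤ S`, with `S` a 2-group, then `Z(S) = Z(Q)`. -/
lemma centerMap_eq_of_le_twoGroup [Finite G] (Q S : Subgroup G) (hQ : Cfsg.IsExtraspecial 2 ↥Q)
    (hC : Subgroup.centralizer (Q : Set G) = (Subgroup.center ↥Q).map Q.subtype) (hQS : Q ≤ S)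
    (hS : IsPGroup 2 ↥S) :
    (Subgroup.center ↥S).map S.subtype = (Subgroup.center ↥Q).map Q.subtype := by
  haveI : Fact (Nat.Prime 2) := ⟨Nat.prime_two⟩
  obtain ⟨z, hz1, -, hZ, hmem⟩ := centerMap_eq_pair Q hQ
  have hle : (Subgroup.center ↥S).map S.subtype ≤ (Subgroup.center ↥Q).map Q.subtype := by
    rw [← hC]
    intro x hx y hy
    exact ((mem_centerMap_iff S x).mp hx).2 y (hQS hy)
  refine le_antisymm hle ?_
  have : Nontrivial ↥S := by
    refine ⟨⟨z, hQS ((mem_centerMap_iff Q z).mp ((hmem z).mpr (Or.inr rfl))).1⟩, 1, ?_⟩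
    exact fun h => hz1 (congrArg Subtype.val h)
  obtain ⟨⟨c, hc⟩, hc1⟩ := (@exists_ne _ hS.center_nontrivial 1)
  have hcS : (c : G) ∈ (Subgroup.center ↥S).map S.subtype := ⟨c, hc, rfl⟩
  have hc1' : (c : G) ≠ 1 := fun h => hc1 (Subtype.ext (Subtype.ext h))
  intro x hx
  rcases (hmem x).mp hx with rfl | rfl
  · exact one_mem _
  · rcases (hmem _).mp (hle hcS) with h | h
    · exact absurd h hc1'
    · rwa [← h]

/-- `Q` normalizing a subgroup of coprime order that normalizes `Q` centralizes it. -/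
lemma le_centralizer_of_normalize (Q K : Subgroup G) (hcop : (Nat.card Q).Coprime (Nat.card K))
    (hQK : Q ≤ Subgroup.normalizer (K : Set G)) (hKQ : K ≤ Subgroup.normalizer (Q : Set G)) :
    K ≤ Subgroup.centralizer (Q : Set G) := by
  have hdis : Q ⊓ K = ⊥ := Subgroup.inf_eq_bot_of_coprime hcop
  intro k hk q hq
  have h1 : q * k * q⁻¹ * k⁻¹ ∈ Q ⊓ K := by
    refine ⟨?_, K.mul_mem ((Subgroup.mem_normalizer_iff.mp (hQK hq) k).mp hk) (K.inv_mem hk)⟩
    have h2 : k * q⁻¹ * k⁻¹ ∈ Q := (Subgroup.mem_normalizer_iff.mp (hKQ hk) q⁻¹).mp (Q.inv_mem hq)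
    simpa [mul_assoc] using Q.mul_mem hq h2
  rw [hdis, Subgroup.mem_bot] at h1
  calc q * k = (q * k * q⁻¹ * k⁻¹) * (k * q) := by group
    _ = k * q := by rw [h1, one_mul]

end Cfsg.Agent.H18
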