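import Cfsg.Agent.H62.UniqueMaximal
import Cfsg.Agent.H62.AutAlternating
import Cfsg.Agent.H51.FStar
import Cfsg.Agent.S4231
import Cfsg.Prelude.Def_LocalEven

/-! Alternating groups in which a Sylow 3-subgroup lies in a unique maximal subgroup. -/

set_option autoImplicit false

namespace Cfsg.Agent.H18.ThreeMin

open Equiv MulAction
open scoped Pointwise

variable {n : ℕ}

/-- The permutations preserving a relation. -/
def relStab (R : Fin n → Fin n → Prop) : Subgroup (Perm (Fin n)) where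
  carrier := {σ | ∀ i j, R (σ i) (σ j) ↔ R i j}
  one_mem' := fun _ _ => Iff.rfl
  mul_mem' := fun {a b} ha hb i j => (ha (b i) (b j)).trans (hb i j)
  inv_mem' := fun {a} ha i j => by simpa using (ha (a⁻¹ i) (a⁻¹ j)).symm

theorem swap_mem_relStab {R : Fin n → Fin n → Prop} (hR : Equivalence R) {a b : Fin n}
    (h : R a b) : swap a b ∈ relStab R := by
  have key : ∀ w, R (swap a b w) w := fun w => by
    rw [Equiv.swap_apply_def]; split_ifs with h1 h2
    · subst h1; exact hR.symm h
    · subst h2; exact h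
    · exact hR.refl w
  intro i j
  exact ⟨fun hij => hR.trans (hR.symm (key i)) (hR.trans hij (key j)),
    fun hij => hR.trans (key i) (hR.trans hij (hR.symm (key j)))⟩

theorem two_swaps_mem {a b c d : Fin n} (h1 : a ≠ b) (h2 : c ≠ d) :
    swap a b * swap c d ∈ alternatingGroup (Fin n) := by
  rw [Perm.mem_alternatingGroup, map_mul, Perm.sign_swap h1, Perm.sign_swap h2]; decide

/-- A nontrivial equivalence relation is not preserved by all even permutations. -/
theorem relStab_ne_top {R : Fin n → Fin n → Prop} (hR : Equivalence R) {a b q : Fin n}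
    (hab : a ≠ b) (h1 : R a b) (h2 : ¬ R b q) :
    (relStab R).subgroupOf (alternatingGroup (Fin n)) ≠ ⊤ := by
  have haq : a ≠ q := fun e => h2 (e ▸ hR.symm h1)
  have hbq : b ≠ q := fun e => h2 (e ▸ hR.refl b)
  intro h
  have hm : swap a b * swap b q ∈ relStab R := by
    have : (⟨_, two_swaps_mem hab hbq⟩ : alternatingGroup (Fin n)) ∈
        (relStab R).subgroupOf (alternatingGroup (Fin n)) := by rw [h]; trivial
    exact this
  have h3 := hm a q
  rw [Perm.mul_apply, Perm.mul_apply, Equiv.swap_apply_of_ne_of_ne hab haq,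
    Equiv.swap_apply_left, Equiv.swap_apply_right, Equiv.swap_apply_right] at h3
  exact h2 (hR.trans (hR.symm h1) (h3.1 (hR.symm h1)))

section Triples

variable (P : Subgroup (Perm (Fin n)))

/-- Two points equal or in the support of one three-cycle of the group. -/
def tri (i j : Fin n) : Prop :=
  i = j ∨ ∃ c ∈ P, c.IsThreeCycle ∧ i ∈ c.support ∧ j ∈ c.support

variable {P}

/-- Overlapping three-cycles of a 3-group have the same support. -/
theorem support_eq_of_overlap (hP : IsPGroup 3 P) {c d : Perm (Fin n)} (hc : c ∈ P) (hd : d ∈ P)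
    (hc3 : c.IsThreeCycle) (hd3 : d.IsThreeCycle) {x : Fin n} (hxc : x ∈ c.support)
    (hxd : x ∈ d.support) : c.support = d.support := by
  haveI : Fact (Nat.Prime 3) := ⟨Nat.prime_three⟩
  classical
  set U := c.support ∪ d.support with hU
  have hle : Subgroup.closure {c, d} ≤ P := by
    rw [Subgroup.closure_le]; rintro w (rfl | rfl) <;> assumption
  obtain ⟨k, hk⟩ := (hP.to_le hle).card_orbit x
  have hcard : orbit (Subgroup.closure ({c, d} : Set (Perm (Fin n)))) x = (U : Set (Fin n)) := by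
    apply Set.Subset.antisymm
    · rintro _ ⟨⟨g, hg⟩, rfl⟩
      show g x ∈ U
      have : ∀ y, g y ∈ U ↔ y ∈ U := by
        induction hg using Subgroup.closure_induction with
        | mem w hw =>
          intro y
          by_cases hwy : w y = y
          · rw [hwy]
          · have hy : y ∈ w.support := Perm.mem_support.2 hwy
            have hwy' : w y ∈ w.support := Perm.apply_mem_support.2 hy
            rcases hw with rfl | rfl <;> simp [hU, hy, hwy']
        | one => simp
        | mul a b _ _ ha hb => intro y; rw [Perm.mul_apply, ha, hb]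
        | inv a _ ha =>
          intro y
          have := ha (a⁻¹ y)
          rw [Perm.inv_def, Equiv.apply_symm_apply] at this
          rw [Perm.inv_def]
          exact this.symm
      exact (this x).2 (Finset.mem_union_left _ hxc)
    · intro y hy
      rcases Finset.mem_union.1 hy with h | h
      · obtain ⟨i, hi⟩ := (hc3.isCycle.exists_pow_eq (Perm.mem_support.1 hxc) (Perm.mem_support.1 h))
        exact ⟨⟨c ^ i, Subgroup.pow_mem _ (Subgroup.subset_closure (by simp)) i⟩, hi⟩
      · obtain ⟨i, hi⟩ := (hd3.isCycle.exists_pow_eq (Perm.mem_support.1 hxd) (Perm.mem_support.1 h))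
        exact ⟨⟨d ^ i, Subgroup.pow_mem _ (Subgroup.subset_closure (by simp)) i⟩, hi⟩
  rw [hcard, Nat.card_coe_set_eq, Set.ncard_coe_finset] at hk
  have h1 : c.support ⊆ U := Finset.subset_union_left
  have hsum := Finset.card_union_add_card_inter c.support d.support
  have hpos : 0 < (c.support ∩ d.support).card :=
    Finset.card_pos.2 ⟨x, Finset.mem_inter.2 ⟨hxc, hxd⟩⟩
  have h3 := Finset.card_le_card h1
  rw [hc3.card_support, hd3.card_support] at hsum
  rw [hc3.card_support] at h3
  rw [← hU, hk] at hsum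
  rw [hk] at h3
  have hk1 : k = 1 := by
    rcases Nat.lt_or_ge k 2 with hk2 | hk2
    · interval_cases k
      · omega
      · rfl
    · have := Nat.pow_le_pow_right (show 0 < 3 by norm_num) hk2
      omega
  subst hk1
  have e1 := Finset.eq_of_subset_of_card_le h1 (by rw [hk, hc3.card_support]; norm_num)
  have e2 := Finset.eq_of_subset_of_card_le (Finset.subset_union_right : d.support ⊆ U)
    (by rw [hk, hd3.card_support]; norm_num)
  exact e1.trans e2.symm

theorem tri_equiv (hP : IsPGroup 3 P) : Equivalence (tri P) := by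
  refine ⟨fun _ => Or.inl rfl, ?_, ?_⟩
  · rintro i j (rfl | ⟨c, hc, h3, hi, hj⟩)
    exacts [Or.inl rfl, Or.inr ⟨c, hc, h3, hj, hi⟩]
  · rintro i j k (rfl | ⟨c, hc, h3, hi, hj⟩) h
    · exact h
    · rcases h with rfl | ⟨d, hd, h3', hj', hk⟩
      · exact Or.inr ⟨c, hc, h3, hi, hj⟩
      · exact Or.inr ⟨c, hc, h3, hi, (support_eq_of_overlap hP hc hd h3 h3' hj hj') ▸ hk⟩

theorem le_relStab_tri : P ≤ relStab (tri P) := by
  have key : ∀ g ∈ P, ∀ i j, tri P i j → tri P (g i) (g j) := by
    rintro g hg i j (rfl | ⟨c, hc, h3, hi, hj⟩)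
    · exact Or.inl rfl
    · refine Or.inr ⟨g * c * g⁻¹, P.mul_mem (P.mul_mem hg hc) (P.inv_mem hg), ?_, ?_, ?_⟩
      · rw [Perm.IsThreeCycle, Perm.cycleType_conj]; exact h3
      · rw [Perm.support_conj]; exact Finset.mem_map.2 ⟨i, hi, rfl⟩
      · rw [Perm.support_conj]; exact Finset.mem_map.2 ⟨j, hj, rfl⟩
  intro g hg i j
  refine ⟨fun h => ?_, key g hg i j⟩
  have := key _ (P.inv_mem hg) _ _ h
  simpa using this

theorem tri_iff_mem (hP : IsPGroup 3 P) {c : Perm (Fin n)} (hc : c ∈ P) (h3 : c.IsThreeCycle)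
    {i : Fin n} (hi : i ∈ c.support) (j : Fin n) : tri P i j ↔ j ∈ c.support := by
  refine ⟨?_, fun hj => Or.inr ⟨c, hc, h3, hi, hj⟩⟩
  rintro (rfl | ⟨d, hd, h3', hi', hj⟩)
  · exact hi
  · rwa [support_eq_of_overlap hP hc hd h3 h3' hi hi']

end Triples

/-- The three points of a class, starting with a given one. -/
theorem exists_three {P : Subgroup (Perm (Fin n))} (hP : IsPGroup 3 P) {a : Fin n}
    (h : ∃ c ∈ P, c.IsThreeCycle ∧ a ∈ c.support) :
    ∃ a' a'', a ≠ a' ∧ a ≠ a'' ∧ a' ≠ a'' ∧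
      ∀ j, tri P a j ↔ (j = a ∨ j = a' ∨ j = a'') := by
  classical
  obtain ⟨c, hc, h3, ha⟩ := h
  have hcard : (c.support.erase a).card = 2 := by
    rw [Finset.card_erase_of_mem ha, h3.card_support]
  obtain ⟨a', a'', hne, he⟩ := Finset.card_eq_two.1 hcard
  have h' : a' ∈ c.support.erase a := by rw [he]; simp
  have h'' : a'' ∈ c.support.erase a := by rw [he]; simp
  refine ⟨a', a'', (Ne.symm (Finset.ne_of_mem_erase h')), (Ne.symm (Finset.ne_of_mem_erase h'')),
    hne, fun j => ?_⟩
  rw [tri_iff_mem hP hc h3 ha]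
  constructor
  · intro hj
    by_cases hja : j = a
    · exact Or.inl hja
    · have : j ∈ c.support.erase a := Finset.mem_erase.2 ⟨hja, hj⟩
      rw [he] at this
      simpa using Or.inr (a := j = a) (by simpa using this)
  · rintro (rfl | rfl | rfl)
    exacts [ha, Finset.mem_of_mem_erase h', Finset.mem_of_mem_erase h'']

/-- An even permutation preserving the classes, moving `a` to `x` and fixing a third class. -/
theorem exists_move {P : Subgroup (Perm (Fin n))} (hP : IsPGroup 3 P)
    (hcov : ∀ i, ∃ c ∈ P, c.IsThreeCycle ∧ i ∈ c.support) {a b x e : Fin n}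
    (hax : ¬ tri P a x) (hba : ¬ tri P b a) (hbx : ¬ tri P b x)
    (hea : ¬ tri P e a) (hex : ¬ tri P e x) (hbe : ¬ tri P b e) :
    ∃ g ∈ relStab (tri P), g ∈ alternatingGroup (Fin n) ∧ g a = x ∧
      ∀ y, tri P b y → g y = y := by
  have hR := tri_equiv hP
  obtain ⟨a1, a2, ha1, ha2, ha12, hA⟩ := exists_three hP (hcov a)
  obtain ⟨x1, x2, hx1, hx2, hx12, hX⟩ := exists_three hP (hcov x)
  obtain ⟨e1, e2, he1, he2, he12, hE⟩ := exists_three hP (hcov e)
  have sep : ∀ {u v : Fin n}, ¬ tri P u v → ∀ {i j}, tri P u i → tri P v j → i ≠ j :=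
    fun {u v} huv {i j} hi hj hij => huv (hR.trans hi (hij ▸ hR.symm hj))
  let σ : Perm (Fin n) := swap a x * swap a1 x1 * swap a2 x2
  have hAX : ∀ {i j}, tri P a i → tri P x j → i ≠ j := sep hax
  have m0 : tri P a a := hR.refl a
  have m1 : tri P a a1 := (hA a1).2 (by simp)
  have m2 : tri P a a2 := (hA a2).2 (by simp)
  have n0 : tri P x x := hR.refl x
  have n1 : tri P x x1 := (hX x1).2 (by simp)
  have n2 : tri P x x2 := (hX x2).2 (by simp)
  have hσA : σ a = x ∧ σ a1 = x1 ∧ σ a2 = x2 ∧ σ x = a ∧ σ x1 = a1 ∧ σ x2 = a2 := by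
    refine ⟨?_, ?_, ?_, ?_, ?_, ?_⟩ <;>
      simp [σ, Equiv.swap_apply_def, ha1, ha2, ha12, Ne.symm ha1, Ne.symm ha2, Ne.symm ha12,
        hx1, hx2, hx12, Ne.symm hx1, Ne.symm hx2, Ne.symm hx12,
        hAX m0 n0, hAX m0 n1, hAX m0 n2, hAX m1 n0, hAX m1 n1, hAX m1 n2, hAX m2 n0, hAX m2 n1,
        hAX m2 n2, Ne.symm (hAX m0 n0), Ne.symm (hAX m0 n1), Ne.symm (hAX m0 n2),
        Ne.symm (hAX m1 n0), Ne.symm (hAX m1 n1), Ne.symm (hAX m1 n2), Ne.symm (hAX m2 n0),
        Ne.symm (hAX m2 n1), Ne.symm (hAX m2 n2)]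
  have hσfix : ∀ y, ¬ tri P a y → ¬ tri P x y → σ y = y := by
    intro y hy hy'
    rw [hA] at hy
    rw [hX] at hy'
    push Not at hy hy'
    simp [σ, Equiv.swap_apply_def, hy.1, hy.2.1, hy.2.2, hy'.1, hy'.2.1, hy'.2.2]
  have hσto : ∀ y, tri P a y → tri P x (σ y) := by
    intro y hy
    rcases (hA y).1 hy with rfl | rfl | rfl
    · rw [hσA.1]; exact n0
    · rw [hσA.2.1]; exact n1
    · rw [hσA.2.2.1]; exact n2
  have hσfrom : ∀ y, tri P x y → tri P a (σ y) := by
    intro y hy
    rcases (hX y).1 hy with rfl | rfl | rfl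
    · rw [hσA.2.2.2.1]; exact m0
    · rw [hσA.2.2.2.2.1]; exact m1
    · rw [hσA.2.2.2.2.2]; exact m2
  have hσR : ∀ i j, tri P i j → tri P (σ i) (σ j) := by
    intro i j hij
    by_cases hi : tri P a i
    · exact hR.trans (hR.symm (hσto i hi)) (hσto j (hR.trans hi hij))
    by_cases hi' : tri P x i
    · exact hR.trans (hR.symm (hσfrom i hi')) (hσfrom j (hR.trans hi' hij))
    rw [hσfix i hi hi', hσfix j (fun h => hi (hR.trans h (hR.symm hij)))
      (fun h => hi' (hR.trans h (hR.symm hij)))]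
    exact hij
  have hσσ : ∀ y, σ (σ y) = y := by
    intro y
    by_cases hy : tri P a y
    · rcases (hA y).1 hy with rfl | rfl | rfl
      · rw [hσA.1, hσA.2.2.2.1]
      · rw [hσA.2.1, hσA.2.2.2.2.1]
      · rw [hσA.2.2.1, hσA.2.2.2.2.2]
    by_cases hy' : tri P x y
    · rcases (hX y).1 hy' with rfl | rfl | rfl
      · rw [hσA.2.2.2.1, hσA.1]
      · rw [hσA.2.2.2.2.1, hσA.2.1]
      · rw [hσA.2.2.2.2.2, hσA.2.2.1]
    rw [hσfix y hy hy', hσfix y hy hy']
  have k1 : tri P e e1 := (hE e1).2 (by simp)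
  refine ⟨σ * swap e e1, mul_mem (fun i j => ⟨fun h => ?_, hσR i j⟩) (swap_mem_relStab hR k1),
    ?_, ?_, fun y hy => ?_⟩
  · have := hσR _ _ h
    rwa [hσσ, hσσ] at this
  · rw [Perm.mem_alternatingGroup]
    simp only [σ, map_mul, Perm.sign_swap (hAX m0 n0), Perm.sign_swap (hAX m1 n1),
      Perm.sign_swap (hAX m2 n2), Perm.sign_swap he1]
    decide
  · rw [Perm.mul_apply, Equiv.swap_apply_of_ne_of_ne (sep hea (hR.refl e) m0).symm
      (sep hea k1 m0).symm, hσA.1]
  · rw [Perm.mul_apply, Equiv.swap_apply_of_ne_of_ne (sep hbe hy (hR.refl e))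
      (sep hbe hy k1), hσfix y (fun h => hba (hR.trans hy (hR.symm h)))
      (fun h => hbx (hR.trans hy (hR.symm h)))]

/-- Two systems of imprimitivity generate the alternating group. -/
theorem alt_le_join {P : Subgroup (Perm (Fin n))} (hP : IsPGroup 3 P)
    (hcov : ∀ i, ∃ c ∈ P, c.IsThreeCycle ∧ i ∈ c.support) (h12 : 12 ≤ n)
    {R : Fin n → Fin n → Prop} (hR : Equivalence R) {a b : Fin n}
    (hab : ¬ tri P b a) (hD : ∀ y, tri P b y → R b y) (hRa : R b a) :
    alternatingGroup (Fin n) ≤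
      (relStab R ⊓ alternatingGroup (Fin n)) ⊔ (relStab (tri P) ⊓ alternatingGroup (Fin n)) := by
  classical
  have hT := tri_equiv hP
  obtain ⟨b', b'', hb', hb'', hb12, hB⟩ := exists_three hP (hcov b)
  refine H62.alt_le_of_base _ hb' fun x hxb hxb' => ?_
  have hRb' : R b b' := hD b' ((hB b').2 (by simp))
  have hin : ∀ y, y ≠ b → R b y → swap b y * swap b b' ∈
      (relStab R ⊓ alternatingGroup (Fin n)) ⊔ (relStab (tri P) ⊓ alternatingGroup (Fin n)) :=
    fun y hy h => Subgroup.mem_sup_left ⟨mul_mem (swap_mem_relStab hR h) (swap_mem_relStab hR hRb'),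
      two_swaps_mem (Ne.symm hy) hb'⟩
  by_cases hxR : R b x
  · exact hin x hxb hxR
  have hbx : ¬ tri P b x := fun h => hxR (hD x h)
  by_cases hax : tri P a x
  · -- the pair `a, x` lies in one class
    have hne : a ≠ x := fun e => hxR (e ▸ hRa)
    obtain ⟨a1, a2, ha1, ha2, ha12, hA⟩ := exists_three hP (hcov a)
    obtain ⟨e, he⟩ : ∃ e, ¬ tri P b e ∧ ¬ tri P a e := by
      obtain ⟨e, -, he⟩ := Finset.exists_mem_notMem_of_card_lt_card
        (s := ({b, b', b'', a, a1, a2} : Finset (Fin n))) (t := Finset.univ)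
        (lt_of_le_of_lt Finset.card_le_six (by simp; omega))
      simp only [Finset.mem_insert, Finset.mem_singleton, not_or] at he
      exact ⟨e, by rw [hB]; push Not; exact ⟨he.1, he.2.1, he.2.2.1⟩,
        by rw [hA]; push Not; exact ⟨he.2.2.2.1, he.2.2.2.2.1, he.2.2.2.2.2⟩⟩
    obtain ⟨f, f2, hf, hf2, hf12, hF⟩ := exists_three hP (hcov e)
    have hef : tri P e f := (hF f).2 (by simp)
    have hg : swap a x * swap e f ∈ relStab (tri P) ⊓ alternatingGroup (Fin n) :=
      ⟨mul_mem (swap_mem_relStab hT hax) (swap_mem_relStab hT hef), two_swaps_mem hne hf⟩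
    have fix : ∀ y, tri P b y → (swap a x * swap e f) y = y := by
      intro y hy
      have y1 : y ≠ e := fun h => he.1 (by subst h; exact hy)
      have y2 : y ≠ f := fun h => he.1 (by subst h; exact hT.trans hy (hT.symm hef))
      have y3 : y ≠ a := fun h => hab (by subst h; exact hy)
      have y4 : y ≠ x := fun h => hbx (by subst h; exact hy)
      rw [Perm.mul_apply, Equiv.swap_apply_of_ne_of_ne y1 y2, Equiv.swap_apply_of_ne_of_ne y3 y4]
    have hga : (swap a x * swap e f) a = x := by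
      have a1 : a ≠ e := fun h => he.2 (by subst h; exact hT.refl _)
      have a2 : a ≠ f := fun h => he.2 (by subst h; exact hT.symm hef)
      rw [Perm.mul_apply, Equiv.swap_apply_of_ne_of_ne a1 a2, Equiv.swap_apply_left]
    have key := mul_mem (mul_mem (Subgroup.mem_sup_right hg)
      (hin a (fun h => hab (h ▸ hT.refl b)) hRa))
      (inv_mem (Subgroup.mem_sup_right (S := relStab R ⊓ alternatingGroup (Fin n)) hg))
    rwa [show swap a x * swap e f * (swap b a * swap b b') * (swap a x * swap e f)⁻¹ =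
      ((swap a x * swap e f) * swap b a * (swap a x * swap e f)⁻¹) *
      ((swap a x * swap e f) * swap b b' * (swap a x * swap e f)⁻¹) by group,
      ← Equiv.swap_apply_apply, ← Equiv.swap_apply_apply, fix b (hT.refl b),
      fix b' ((hB b').2 (by simp)), hga] at key
  · obtain ⟨a1, a2, ha1, ha2, ha12, hA⟩ := exists_three hP (hcov a)
    obtain ⟨x1, x2, hx1, hx2, hx12, hX⟩ := exists_three hP (hcov x)
    obtain ⟨e, he⟩ : ∃ e, ¬ tri P b e ∧ ¬ tri P a e ∧ ¬ tri P x e := by
      obtain ⟨e, -, he⟩ := Finset.exists_mem_notMem_of_card_lt_card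
        (s := ({b, b', b'', a, a1, a2} : Finset (Fin n)) ∪ {x, x1, x2}) (t := Finset.univ)
        (lt_of_le_of_lt ((Finset.card_union_le _ _).trans
          (add_le_add Finset.card_le_six Finset.card_le_three)) (by simp; omega))
      simp only [Finset.mem_union, Finset.mem_insert, Finset.mem_singleton, not_or] at he
      exact ⟨e, by rw [hB]; push Not; exact ⟨he.1.1, he.1.2.1, he.1.2.2.1⟩,
        by rw [hA]; push Not; exact ⟨he.1.2.2.2.1, he.1.2.2.2.2.1, he.1.2.2.2.2.2⟩,
        by rw [hX]; push Not; exact ⟨he.2.1, he.2.2.1, he.2.2.2⟩⟩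
    obtain ⟨g, hg1, hg2, hga, fix⟩ := exists_move hP hcov (a := a) (b := b) (x := x) (e := e)
      hax hab hbx (fun h => he.2.1 (hT.symm h)) (fun h => he.2.2 (hT.symm h)) he.1
    have key := mul_mem (mul_mem (Subgroup.mem_sup_right (T := relStab (tri P) ⊓
      alternatingGroup (Fin n)) ⟨hg1, hg2⟩) (hin a (fun h => hab (h ▸ hT.refl b)) hRa))
      (inv_mem (Subgroup.mem_sup_right (S := relStab R ⊓ alternatingGroup (Fin n))
        (T := relStab (tri P) ⊓ alternatingGroup (Fin n)) ⟨hg1, hg2⟩))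
    rwa [show g * (swap b a * swap b b') * g⁻¹ = (g * swap b a * g⁻¹) * (g * swap b b' * g⁻¹) by
      group, ← Equiv.swap_apply_apply, ← Equiv.swap_apply_apply, fix b (hT.refl b),
      fix b' ((hB b').2 (by simp)), hga] at key

theorem sup_eq_top_of_le {A B : Subgroup (Perm (Fin n))}
    (h : alternatingGroup (Fin n) ≤
      (A ⊓ alternatingGroup (Fin n)) ⊔ (B ⊓ alternatingGroup (Fin n))) :
    A.subgroupOf (alternatingGroup (Fin n)) ⊔ B.subgroupOf (alternatingGroup (Fin n)) = ⊤ := by
  apply Subgroup.map_injective (alternatingGroup (Fin n)).subtype_injective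
  rw [Subgroup.map_sup, Subgroup.subgroupOf_map_subtype, Subgroup.subgroupOf_map_subtype,
    ← MonoidHom.range_eq_map, Subgroup.range_subtype]
  exact le_antisymm (sup_le inf_le_right inf_le_right) h

variable (S : Sylow 3 (alternatingGroup (Fin n)))

/-- The Sylow subgroup as permutations. -/
abbrev img : Subgroup (Perm (Fin n)) := (S : Subgroup _).map (alternatingGroup (Fin n)).subtype

/-- The orbit of a point. -/
abbrev orb (x : Fin n) : Set (Fin n) := orbit (S : Subgroup (alternatingGroup (Fin n))) x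

theorem le_stab_orb (x : Fin n) :
    (S : Subgroup (alternatingGroup (Fin n))) ≤ stabilizer (alternatingGroup (Fin n)) (orb S x) := by
  intro g hg
  rw [MulAction.mem_stabilizer_iff]
  exact MulAction.smul_orbit (⟨g, hg⟩ : (S : Subgroup (alternatingGroup (Fin n)))) x

/-- Every orbit with three points contains the support of a three-cycle of the Sylow subgroup. -/
theorem exists_cycle_in_orbit {x : Fin n} (h3 : 3 ≤ (orb S x).ncard) :
    ∃ c ∈ img S, c.IsThreeCycle ∧ ∀ i ∈ c.support, i ∈ orb S x := by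
  classical
  haveI : Fact (Nat.Prime 3) := ⟨Nat.prime_three⟩
  obtain ⟨u, v, w, hu, hv, hw, huv, huw, hvw⟩ := (Set.two_lt_ncard_iff (Set.toFinite _)).1 h3
  set H := stabilizer (alternatingGroup (Fin n)) (orb S x) with hH
  have h3c : (swap u v * swap u w).IsThreeCycle :=
    Perm.isThreeCycle_swap_mul_swap_same huv huw hvw
  let c0 : alternatingGroup (Fin n) := ⟨_, h3c.mem_alternatingGroup⟩
  have hc0 : c0 ∈ H := by
    rw [hH, MulAction.mem_stabilizer_set' (Set.toFinite _)]
    intro y hy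
    show (swap u v * swap u w) y ∈ orb S x
    rw [Perm.mul_apply, Equiv.swap_apply_def, Equiv.swap_apply_def]
    split_ifs <;> assumption
  have ho : orderOf (⟨c0, hc0⟩ : H) = 3 := by
    rw [← Subgroup.orderOf_coe, ← Subgroup.orderOf_coe]; exact h3c.orderOf
  obtain ⟨T, hT⟩ := (IsPGroup.of_card (p := 3) (n := 1)
    (by rw [Nat.card_zpowers, ho, pow_one] :
      Nat.card (Subgroup.zpowers (⟨c0, hc0⟩ : H)) = 3 ^ 1)).exists_le_sylow
  let S' : Sylow 3 H := S.subtype (le_stab_orb S x)
  obtain ⟨h, hh⟩ := MulAction.exists_smul_eq H T S'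
  have hmem : h * (⟨c0, hc0⟩ : H) * h⁻¹ ∈ (S' : Subgroup H) := by
    rw [← hh, Sylow.coe_subgroup_smul]
    exact ⟨_, hT (Subgroup.mem_zpowers _), rfl⟩
  refine ⟨((h.1 * c0 * h.1⁻¹ : alternatingGroup (Fin n)) : Perm (Fin n)),
    Subgroup.mem_map_of_mem _ (show (h.1 * c0 * h.1⁻¹ : alternatingGroup (Fin n)) ∈
      (S : Subgroup (alternatingGroup (Fin n))) from hmem), ?_, fun i hi => ?_⟩
  · show ((h.1 : Perm (Fin n)) * (c0 : Perm (Fin n)) * (h.1 : Perm (Fin n))⁻¹).IsThreeCycle
    rw [Perm.IsThreeCycle, Perm.cycleType_conj]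
    exact h3c
  · rw [Subgroup.coe_mul, Subgroup.coe_mul, Subgroup.coe_inv, Perm.support_conj,
      Finset.mem_map] at hi
    obtain ⟨j, hj, rfl⟩ := hi
    have hjO : j ∈ orb S x := by
      by_contra hjO
      refine Perm.mem_support.1 hj ?_
      show (swap u v * swap u w) j = j
      have j1 : j ≠ u := fun e => hjO (by rw [e]; exact hu)
      have j2 : j ≠ v := fun e => hjO (by rw [e]; exact hv)
      have j3 : j ≠ w := fun e => hjO (by rw [e]; exact hw)
      rw [Perm.mul_apply, Equiv.swap_apply_of_ne_of_ne j1 j3, Equiv.swap_apply_of_ne_of_ne j1 j2]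
    exact (MulAction.mem_stabilizer_set' (Set.toFinite _)).1 h.2 hjO

theorem covered {x : Fin n} (h3 : 3 ≤ (orb S x).ncard) :
    ∃ c ∈ img S, c.IsThreeCycle ∧ x ∈ c.support := by
  classical
  obtain ⟨c, hc, h, hsub⟩ := exists_cycle_in_orbit S h3
  obtain ⟨i, hi⟩ : c.support.Nonempty := Finset.card_pos.1 (by rw [h.card_support]; norm_num)
  have hio := hsub i hi
  obtain ⟨⟨g, hg⟩, hgx⟩ := MulAction.mem_orbit_symm.1 hio
  have hgP : (g : Perm (Fin n)) ∈ img S := Subgroup.mem_map_of_mem _ hg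
  refine ⟨(g : Perm (Fin n)) * c * (g : Perm (Fin n))⁻¹,
    (img S).mul_mem ((img S).mul_mem hgP hc) ((img S).inv_mem hgP), ?_, ?_⟩
  · rw [Perm.IsThreeCycle, Perm.cycleType_conj]; exact h
  · rw [Perm.support_conj]
    exact Finset.mem_map.2 ⟨i, hi, hgx⟩

theorem isPGroup_img : IsPGroup 3 (img S) := S.2.map _

theorem tri_le_orb {x y : Fin n} (h : tri (img S) x y) : y ∈ orb S x := by
  rcases h with rfl | ⟨c, hc, h3, hx, hy⟩
  · exact MulAction.mem_orbit_self _
  · obtain ⟨g, hg, rfl⟩ := hc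
    obtain ⟨i, hi⟩ := h3.isCycle.exists_pow_eq (Perm.mem_support.1 hx) (Perm.mem_support.1 hy)
    exact ⟨⟨g, hg⟩ ^ i, by rw [← hi]; rfl⟩

/-- A further system of imprimitivity next to the triples gives two maximal subgroups. -/
theorem not_unique_of_rel (hcov : ∀ i, ∃ c ∈ img S, c.IsThreeCycle ∧ i ∈ c.support) (h12 : 12 ≤ n)
    {R : Fin n → Fin n → Prop} (hR : Equivalence R) (hSR : img S ≤ relStab R) {a b q : Fin n}
    (hab : ¬ tri (img S) b a) (hD : ∀ y, tri (img S) b y → R b y) (hRa : R b a) (hq : ¬ R a q) :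
    ¬ H62.HasUniqueMaximalOver (S : Subgroup (alternatingGroup (Fin n))) := by
  have hT := tri_equiv (isPGroup_img S)
  obtain ⟨b', b'', hb', -, -, hB⟩ := exists_three (isPGroup_img S) (hcov b)
  refine H62.not_hasUniqueMaximalOver
    (relStab_ne_top hR (a := b) (b := a) (fun e => hab (by subst e; exact hT.refl _)) hRa hq)
    (relStab_ne_top hT hb' ((hB b').2 (by simp))
      (fun h => hab (hT.trans ((hB b').2 (by simp)) h)))
    (fun g hg => hSR (Subgroup.mem_map_of_mem _ hg))
    (fun g hg => le_relStab_tri (Subgroup.mem_map_of_mem _ hg))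
    (sup_eq_top_of_le (alt_le_join (isPGroup_img S) hcov h12 hR hab hD hRa))

/-- An index three system in the transitive case. -/
theorem not_unique_transitive (k : ℕ) (hk : 3 ≤ k) (hnk : n = 3 ^ k)
    (htr : ∀ x : Fin n, orb S x = Set.univ) :
    ¬ H62.HasUniqueMaximalOver (S : Subgroup (alternatingGroup (Fin n))) := by
  classical
  haveI : Fact (Nat.Prime 3) := ⟨Nat.prime_three⟩
  have h27 : 27 ≤ n := by
    rw [hnk]; exact le_trans (by norm_num) (Nat.pow_le_pow_right (by norm_num) hk)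
  have hcov : ∀ i, ∃ c ∈ img S, c.IsThreeCycle ∧ i ∈ c.support := fun i =>
    covered S (by rw [htr, Set.ncard_univ, Nat.card_fin]; omega)
  have hT := tri_equiv (isPGroup_img S)
  obtain ⟨b, -⟩ : ∃ b : Fin n, True := ⟨⟨0, by omega⟩, trivial⟩
  obtain ⟨b', b'', hb', hb'', -, hB⟩ := exists_three (isPGroup_img S) (hcov b)
  let K : Subgroup (S : Subgroup (alternatingGroup (Fin n))) :=
    { carrier := {g | tri (img S) b (g • b)}
      one_mem' := by rw [Set.mem_setOf_eq, one_smul]; exact hT.refl b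
      mul_mem' := fun {g h} hg hh => by
        rw [Set.mem_setOf_eq, mul_smul]
        exact hT.trans hg ((le_relStab_tri (Subgroup.mem_map_of_mem _ g.2) b (h • b)).2 hh)
      inv_mem' := fun {g} hg => by
        rw [Set.mem_setOf_eq]
        refine hT.symm ((le_relStab_tri (Subgroup.mem_map_of_mem _ g.2) (g⁻¹ • b) b).1 ?_)
        show tri (img S) (g • g⁻¹ • b) (g • b)
        rwa [smul_inv_smul] }
  have hK : K ≠ ⊤ := by
    intro h
    have : ∀ y, tri (img S) b y := fun y => by
      obtain ⟨g, hg⟩ : y ∈ orb S b := by rw [htr]; trivial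
      have hmem : g ∈ K := by rw [h]; trivial
      rw [← hg]
      exact hmem
    obtain ⟨y, -, hy⟩ := Finset.exists_mem_notMem_of_card_lt_card
      (s := ({b, b', b''} : Finset (Fin n))) (t := Finset.univ)
      (lt_of_le_of_lt Finset.card_le_three (by simp; omega))
    exact hy (by simpa using (hB y).1 (this y))
  obtain ⟨M, hM, hKM⟩ := (eq_top_or_exists_le_coatom K).resolve_left hK
  haveI hMn : M.Normal :=
    haveI := S.2.isNilpotent
    Subgroup.NormalizerCondition.normal_of_coatom M Group.normalizerCondition_of_isNilpotent hM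
  have hMi : M.index = 3 := by
    obtain ⟨j, hj⟩ := (S.2.to_quotient M).exists_card_eq
    have hsimp : IsSimpleGroup ((S : Subgroup (alternatingGroup (Fin n))) ⧸ M) := by
      haveI : Nontrivial ((S : Subgroup (alternatingGroup (Fin n))) ⧸ M) :=
        (QuotientGroup.nontrivial_iff (N := M)).2 hM.1
      refine ⟨fun N hN => ?_⟩
      by_cases h : M < N.comap (QuotientGroup.mk' M)
      · right
        have := hM.2 _ h
        apply Subgroup.comap_injective (QuotientGroup.mk'_surjective M)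
        rw [this, Subgroup.comap_top]
      · left
        have h1 : M ≤ N.comap (QuotientGroup.mk' M) := fun m hm => by
          simp [Subgroup.mem_comap, (QuotientGroup.eq_one_iff m).2 hm, N.one_mem]
        have := le_antisymm h1 (by
          by_contra h2
          exact h (lt_of_le_of_ne h1 fun e => h2 e.ge))
        apply Subgroup.comap_injective (QuotientGroup.mk'_surjective M)
        rw [← this]
        exact (QuotientGroup.ker_mk' M).symm
    haveI := hsimp
    haveI : Group.IsNilpotent ((S : Subgroup (alternatingGroup (Fin n))) ⧸ M) :=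
      (S.2.to_quotient M).isNilpotent
    have hp : (Nat.card ((S : Subgroup (alternatingGroup (Fin n))) ⧸ M)).Prime := by
      let inst : CommGroup ((S : Subgroup (alternatingGroup (Fin n))) ⧸ M) :=
        { (inferInstance : Group _) with mul_comm := IsSimpleGroup.comm_iff_isSolvable.2 inferInstance }
      exact IsSimpleGroup.prime_card
    rw [Subgroup.index, hj]
    rw [hj] at hp
    exact ((Nat.Prime.pow_eq_iff hp).1 rfl).1.symm
  let R : Fin n → Fin n → Prop := fun i j => ∃ m ∈ M, m • i = j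
  have hR : Equivalence R := by
    refine ⟨fun i => ⟨1, M.one_mem, one_smul _ i⟩, ?_, ?_⟩
    · rintro i j ⟨m, hm, rfl⟩
      exact ⟨m⁻¹, M.inv_mem hm, inv_smul_smul m i⟩
    · rintro i j l ⟨m, hm, rfl⟩ ⟨m', hm', rfl⟩
      exact ⟨m' * m, M.mul_mem hm' hm, mul_smul m' m i⟩
  have hSR : img S ≤ relStab R := by
    rintro _ ⟨g, hg, rfl⟩ i j
    constructor
    · rintro ⟨m, hm, h⟩
      refine ⟨(⟨g, hg⟩ : (S : Subgroup _))⁻¹ * m * ⟨g, hg⟩, ?_, ?_⟩
      · simpa using hMn.conj_mem m hm (⟨g, hg⟩ : (S : Subgroup _))⁻¹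
      · rw [mul_smul, mul_smul]
        exact inv_smul_eq_iff.2 h
    · rintro ⟨m, hm, rfl⟩
      refine ⟨(⟨g, hg⟩ : (S : Subgroup _)) * m * (⟨g, hg⟩ : (S : Subgroup _))⁻¹,
        hMn.conj_mem m hm _, ?_⟩
      show _ • ((⟨g, hg⟩ : (S : Subgroup _)) • i) = (⟨g, hg⟩ : (S : Subgroup _)) • m • i
      rw [mul_smul, inv_smul_smul, mul_smul]
  have hD : ∀ y, tri (img S) b y → R b y := by
    intro y hy
    obtain ⟨g, rfl⟩ : y ∈ orb S b := by rw [htr]; trivial
    exact ⟨g, hKM hy, rfl⟩
  -- the class of `b` has at least nine points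
  let D : Finset (Fin n) := Finset.univ.filter fun y => R b y
  obtain ⟨t, ht⟩ : ∃ t, t ∉ M := by
    by_contra h; push Not at h; exact hM.1 (eq_top_iff.2 fun g _ => h g)
  have hcover : (Finset.univ : Finset (Fin n)) ⊆
      D ∪ D.image (fun y => t • y) ∪ D.image (fun y => (t * t) • y) := by
    intro y _
    obtain ⟨g, rfl⟩ : y ∈ orb S b := by rw [htr]; trivial
    have hc : Nat.card ((S : Subgroup (alternatingGroup (Fin n))) ⧸ M) = 3 := hMi
    set u : (S : Subgroup (alternatingGroup (Fin n))) ⧸ M := QuotientGroup.mk t with hu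
    have hu1 : u ≠ 1 := fun e => ht ((QuotientGroup.eq_one_iff t).1 e)
    haveI : Finite ((S : Subgroup (alternatingGroup (Fin n))) ⧸ M) :=
      Nat.finite_of_card_ne_zero (by rw [hc]; norm_num)
    haveI := isCyclic_of_prime_card (p := 3) hc
    have hzt : Subgroup.zpowers u = ⊤ := zpowers_eq_top_of_prime_card (p := 3) hc hu1
    obtain ⟨e, he⟩ : (QuotientGroup.mk g : (S : Subgroup _) ⧸ M) ∈ Submonoid.powers u :=
      mem_powers_iff_mem_zpowers.2 (by rw [hzt]; trivial)
    have h3 := pow_card_eq_one' (x := u)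
    rw [hc] at h3
    have he' : u ^ (e % 3) = QuotientGroup.mk g := by
      refine Eq.trans ?_ he
      show u ^ (e % 3) = u ^ e
      conv_rhs => rw [← Nat.mod_add_div e 3, pow_add, pow_mul, h3, one_pow, mul_one]
    have hmem : (t ^ (e % 3))⁻¹ * g ∈ M := by
      rw [← QuotientGroup.eq_one_iff, QuotientGroup.mk_mul, QuotientGroup.mk_inv,
        QuotientGroup.mk_pow, ← hu, he', inv_mul_cancel]
    have hy : (t ^ (e % 3))⁻¹ • g • b ∈ D :=
      Finset.mem_filter.2 ⟨Finset.mem_univ _, _, hmem, mul_smul _ _ _⟩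
    simp only [Finset.mem_union, Finset.mem_image]
    have : e % 3 = 0 ∨ e % 3 = 1 ∨ e % 3 = 2 := by omega
    rcases this with h | h | h <;> rw [h] at hy
    · left; left; simpa using hy
    · left; right; exact ⟨_, hy, by simp⟩
    · right; exact ⟨_, hy, by rw [← pow_two]; simp⟩
  have hcard : n ≤ 3 * D.card := by
    have h1 := Finset.card_le_card hcover
    have h2 := Finset.card_union_le (D ∪ D.image fun y => t • y) (D.image fun y => (t * t) • y)
    have h3 := Finset.card_union_le D (D.image fun y => t • y)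
    have h4 := Finset.card_image_le (s := D) (f := fun y => t • y)
    have h5 := Finset.card_image_le (s := D) (f := fun y => (t * t) • y)
    rw [Finset.card_univ, Fintype.card_fin] at h1
    omega
  obtain ⟨a, haD, ha⟩ := Finset.exists_mem_notMem_of_card_lt_card
    (s := ({b, b', b''} : Finset (Fin n))) (t := D)
    (lt_of_le_of_lt Finset.card_le_three (by omega))
  refine not_unique_of_rel S hcov (by omega) hR hSR (a := a) (b := b) (q := t • b)
    (fun h => ha (by simpa using (hB a).1 h)) hD (Finset.mem_filter.1 haD).2 fun hq => ?_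
  obtain ⟨m, hm, hmq⟩ := hR.trans (Finset.mem_filter.1 haD).2 hq
  have hK' : t⁻¹ * m ∈ K := by
    show tri (img S) b ((t⁻¹ * m) • b)
    rw [mul_smul, hmq, inv_smul_smul]
    exact hT.refl b
  have := M.mul_mem (hKM hK') (M.inv_mem hm)
  simp at this
  exact ht this

theorem orb_eq_of_mem {x y : Fin n} (h : y ∈ orb S x) : orb S y = orb S x :=
  MulAction.orbit_eq_iff.2 h

/-- At most two orbits. -/
theorem two_orbits (hn : 5 ≤ n)
    (hu : H62.HasUniqueMaximalOver (S : Subgroup (alternatingGroup (Fin n)))) {x y z : Fin n}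
    (hxy : y ∉ orb S x) (hzx : z ∉ orb S x) : z ∈ orb S y := by
  classical
  haveI : Fact (Nat.Prime 3) := ⟨Nat.prime_three⟩
  by_contra hzy
  suffices key : ∀ x y z : Fin n, y ∉ orb S x → z ∉ orb S x → z ∉ orb S y →
      2 * (orb S x).ncard ≠ n → False by
    by_cases hh : 2 * (orb S x).ncard = n
    · refine key y x z (fun h => hxy ?_) hzy hzx fun hh' => ?_
      · rw [orb_eq_of_mem S h]; exact MulAction.mem_orbit_self _
      have hd : Disjoint (orb S x) (orb S y) := Set.disjoint_left.2 fun w h1 h2 => hxy (by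
        rw [← orb_eq_of_mem S h1, orb_eq_of_mem S h2]; exact MulAction.mem_orbit_self _)
      have h2 := Set.ncard_union_eq hd
      have h3 : (orb S x ∪ orb S y).ncard < n := by
        refine lt_of_lt_of_eq (Set.ncard_lt_ncard ((Set.ssubset_univ_iff).2 fun h => ?_)
          Set.finite_univ) ((Set.ncard_univ _).trans (Nat.card_fin n))
        have : z ∈ orb S x ∪ orb S y := h ▸ Set.mem_univ z
        rcases this with h | h
        exacts [hzx h, hzy h]
      omega
    · exact key x y z hxy hzx hzy hh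
  intro x y z hxy hzx hzy hhalf
  have hxy' : x ∉ orb S y := fun h => hxy (by
    rw [orb_eq_of_mem S h]; exact MulAction.mem_orbit_self _)
  have hA := alternatingGroup.isCoatom_stabilizer (α := Fin n) (s := orb S x)
    ⟨x, MulAction.mem_orbit_self _⟩ ⟨y, hxy⟩ (by rw [Nat.card_fin]; omega)
  have hB := alternatingGroup.stabilizer_ne_top (α := Fin n) (s := orb S y)
    ⟨y, MulAction.mem_orbit_self _⟩
    ⟨x, hxy', z, hzy, fun e => hzx (e ▸ MulAction.mem_orbit_self _)⟩
  refine H62.not_hasUniqueMaximalOver hA.1 hB (le_stab_orb S x) (le_stab_orb S y) ?_ hu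
  refine hA.2 _ (lt_of_le_of_ne le_sup_left fun e => ?_)
  obtain ⟨g, hg, hgx⟩ := alternatingGroup.exists_mem_stabilizer_smul_eq (α := Fin n)
    (by rw [Nat.card_fin]; omega) (t := (orb S y)ᶜ) x hxy' z hzy
  rw [stabilizer_compl] at hg
  have hg' : g ∈ stabilizer (alternatingGroup (Fin n)) (orb S x) := e ▸ Subgroup.mem_sup_right hg
  exact hzx (hgx ▸ (MulAction.mem_stabilizer_set' (Set.toFinite _)).1 hg' (MulAction.mem_orbit_self x))

/-- The degrees with a unique maximal subgroup over a Sylow 3-subgroup. -/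
theorem degree_of_unique (hn : 5 ≤ n)
    (hu : H62.HasUniqueMaximalOver (S : Subgroup (alternatingGroup (Fin n)))) :
    n = 6 ∨ n = 9 ∨ ∃ a : ℕ, 2 ≤ a ∧ n = 3 ^ a + 1 := by
  classical
  haveI : Fact (Nat.Prime 3) := ⟨Nat.prime_three⟩
  let x : Fin n := ⟨0, by omega⟩
  obtain ⟨k, hk⟩ := S.2.card_orbit x
  rw [Nat.card_coe_set_eq] at hk
  by_cases htr : orb S x = Set.univ
  · have hnk : n = 3 ^ k := by rw [← hk, show orbit _ x = Set.univ from htr, Set.ncard_univ, Nat.card_fin]
    by_cases hk3 : 3 ≤ k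
    · exact absurd hu (not_unique_transitive S k hk3 hnk fun y =>
        (orb_eq_of_mem S (show y ∈ orb S x by rw [htr]; trivial)).trans htr)
    · interval_cases k <;> omega
  obtain ⟨y, hy⟩ : ∃ y, y ∉ orb S x := by
    by_contra h; push Not at h; exact htr (Set.eq_univ_of_forall h)
  obtain ⟨l, hl⟩ := S.2.card_orbit y
  rw [Nat.card_coe_set_eq] at hl
  have huniv : orb S x ∪ orb S y = Set.univ := Set.eq_univ_of_forall fun z =>
    (em (z ∈ orb S x)).imp id fun h => two_orbits S hn hu hy h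
  have hd : Disjoint (orb S x) (orb S y) := Set.disjoint_left.2 fun w h1 h2 => hy (by
    rw [← orb_eq_of_mem S h1, orb_eq_of_mem S h2]; exact MulAction.mem_orbit_self _)
  have hsum : n = 3 ^ k + 3 ^ l := by
    rw [← hk, ← hl, ← Set.ncard_union_eq hd, huniv, Set.ncard_univ, Nat.card_fin]
  rcases Nat.eq_zero_or_pos k with rfl | hk0
  · refine Or.inr (Or.inr ⟨l, ?_, by omega⟩)
    by_contra hl2
    push Not at hl2
    interval_cases l <;> omega
  rcases Nat.eq_zero_or_pos l with rfl | hl0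
  · refine Or.inr (Or.inr ⟨k, ?_, by omega⟩)
    by_contra hk2
    push Not at hk2
    interval_cases k
    omega
  by_cases h11 : k = 1 ∧ l = 1
  · obtain ⟨rfl, rfl⟩ := h11; omega
  exfalso
  have hk3 : 3 ≤ 3 ^ k := Nat.le_self_pow (by omega) 3
  have hl3 : 3 ≤ 3 ^ l := Nat.le_self_pow (by omega) 3
  have hcov : ∀ i, ∃ c ∈ img S, c.IsThreeCycle ∧ i ∈ c.support := by
    intro i
    refine covered S ?_
    have : i ∈ orb S x ∪ orb S y := by rw [huniv]; trivial
    rcases this with h | h <;> rw [orb_eq_of_mem S h]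
    exacts [hk ▸ hk3, hl ▸ hl3]
  obtain ⟨b, o, hbo, ho, h9⟩ : ∃ b o : Fin n, b ∉ orb S o ∧ o ∉ orb S b ∧ 9 ≤ (orb S b).ncard := by
    have hxy : x ∉ orb S y := fun h => hy (by
      rw [orb_eq_of_mem S h]; exact MulAction.mem_orbit_self _)
    rcases Nat.lt_or_ge k 2 with h | h
    · exact ⟨y, x, hy, hxy, by
        rw [hl]; exact le_trans (by norm_num) (Nat.pow_le_pow_right (by norm_num) (show 2 ≤ l by omega))⟩
    · exact ⟨x, y, hxy, hy, by
        rw [hk]; exact le_trans (by norm_num) (Nat.pow_le_pow_right (by norm_num) h)⟩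
  have hT := tri_equiv (isPGroup_img S)
  obtain ⟨b', b'', -, -, -, hB⟩ := exists_three (isPGroup_img S) (hcov b)
  obtain ⟨a, haO, ha⟩ := Set.exists_mem_notMem_of_ncard_lt_ncard
    (s := ({b, b', b''} : Set (Fin n))) (t := orb S b)
    (lt_of_le_of_lt ((Set.ncard_insert_le _ _).trans
      (add_le_add ((Set.ncard_insert_le _ _).trans (add_le_add (Set.ncard_singleton _).le le_rfl))
        le_rfl)) (by omega))
  have h12 : 12 ≤ n := by
    rcases Nat.lt_or_ge k 2 with h | h
    · have := Nat.pow_le_pow_right (show 0 < 3 by norm_num) (show 2 ≤ l by omega); omega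
    · have := Nat.pow_le_pow_right (show 0 < 3 by norm_num) h; omega
  refine not_unique_of_rel S hcov h12 (R := fun i j => j ∈ orb S i)
    ⟨fun i => MulAction.mem_orbit_self i, fun {i j} h => MulAction.mem_orbit_symm.1 h,
      fun {i j l} h h' => by rw [orb_eq_of_mem S h] at h'; exact h'⟩ ?_
    (a := a) (b := b) (q := o) (fun h => ha (by simpa using (hB a).1 h))
    (fun w hw => tri_le_orb S hw) haO (fun h => ho (by rw [orb_eq_of_mem S haO] at h; exact h)) hu
  rintro _ ⟨g, hg, rfl⟩ i j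
  show (⟨g, hg⟩ : (S : Subgroup _)) • j ∈ orb S ((⟨g, hg⟩ : (S : Subgroup _)) • i) ↔ j ∈ orb S i
  rw [show orb S ((⟨g, hg⟩ : (S : Subgroup _)) • i) = orb S i from
    orb_eq_of_mem S (MulAction.mem_orbit i _)]
  exact ⟨fun h => by
      rw [← orb_eq_of_mem S h]
      exact MulAction.mem_orbit_symm.1 (MulAction.mem_orbit j _),
    fun h => by
      rw [← orb_eq_of_mem S h]
      exact MulAction.mem_orbit j _⟩

/-- Odd order automorphisms are conjugations by even permutations. -/
theorem exists_conj_of_three (hn : 5 ≤ n) (φ : MulAut (alternatingGroup (Fin n))) (k : ℕ)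
    (hk : φ ^ 3 ^ k = 1) : ∃ σ : alternatingGroup (Fin n), MulAut.conj σ = φ := by
  have hodd : Odd (3 ^ k) := Odd.pow (by decide)
  obtain ⟨σ, hσ⟩ : ∃ σ : Perm (Fin n), MulAut.conjNormal σ = φ := by
    by_cases h6 : n = 6
    · subst h6; exact S4231.exists_conjNormal_six φ _ hodd hk
    · exact H62.conjNormal_surjective (by omega) h6 φ
  have h1 : σ ^ 3 ^ k = 1 :=
    H62.conjNormal_injective (n := n) (by omega) (by rw [map_pow, hσ, hk, map_one])
  have hs : σ ∈ alternatingGroup (Fin n) := by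
    rw [Perm.mem_alternatingGroup]
    have := congrArg Perm.sign h1
    rw [map_pow, map_one] at this
    rcases Int.units_eq_one_or (Perm.sign σ) with h | h
    · exact h
    · rw [h, hodd.neg_one_pow] at this; exact absurd this (by decide)
  refine ⟨⟨σ, hs⟩, ?_⟩
  rw [← hσ]
  ext a
  rfl

end Cfsg.Agent.H18.ThreeMin

namespace Cfsg.Agent.H18

open scoped Pointwise

/-- 3-minimal groups with alternating `F*`. -/
theorem three_minimal_alternating {X : Type*} [Group X] [Finite X] (hX : Cfsg.IsPMinimal 3 X)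
    (n : ℕ) (hn : 5 ≤ n)
    (hF : Nonempty (↥(Cfsg.generalizedFittingSubgroup X) ≃* ↥(alternatingGroup (Fin n)))) :
    Cfsg.generalizedFittingSubgroup X = ⊤ ∧ (n = 6 ∨ n = 9 ∨ ∃ a : ℕ, 2 ≤ a ∧ n = 3 ^ a + 1) := by
  haveI : Fact (Nat.Prime 3) := ⟨Nat.prime_three⟩
  obtain ⟨e⟩ := hF
  set N := Cfsg.generalizedFittingSubgroup X with hN
  haveI hNn : N.Normal := by
    rw [hN, Cfsg.generalizedFittingSubgroup]
    haveI := H51.layer_normal X
    haveI := H51.fittingSubgroup_normal X
    infer_instance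
  have hcent : ∀ x : X, (∀ m ∈ N, x * m = m * x) → x = 1 := by
    intro x hx
    have hxN : x ∈ N := H51.centralizer_generalizedFitting_le X fun m hm => (hx m hm).symm
    have hz : e ⟨x, hxN⟩ ∈ Subgroup.center (alternatingGroup (Fin n)) := by
      rw [Subgroup.mem_center_iff]
      intro w
      obtain ⟨w, rfl⟩ := e.surjective w
      rw [← map_mul, ← map_mul]
      exact congrArg e (Subtype.ext (hx w w.2).symm)
    rw [alternatingGroup.center_eq_bot (by simp; omega), Subgroup.mem_bot,
      MulEquiv.map_eq_one_iff] at hz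
    exact congrArg Subtype.val hz
  let φ : X →* MulAut (alternatingGroup (Fin n)) :=
    (MulAut.congr e).toMonoidHom.comp (MulAut.conjNormal (H := N))
  obtain ⟨S⟩ := (inferInstance : Nonempty (Sylow 3 X))
  have hSN : (S : Subgroup X) ≤ N := by
    intro x hx
    obtain ⟨k, hk⟩ := S.2 ⟨x, hx⟩
    have hxk : x ^ 3 ^ k = 1 := congrArg Subtype.val hk
    obtain ⟨σ, hσ⟩ := ThreeMin.exists_conj_of_three hn (φ x) k (by rw [← map_pow, hxk, map_one])
    obtain ⟨m, rfl⟩ := e.surjective σ
    have hxm : x * (m.1)⁻¹ = 1 := by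
      refine hcent _ fun w hw => ?_
      have key : ∀ w : N, (MulAut.conjNormal x w : N) = m * w * m⁻¹ := fun w => by
        apply e.injective
        rw [map_mul, map_mul, map_inv]
        have h := congrArg (fun f => f (e w)) hσ
        simp only [MulAut.conj_apply] at h
        rw [h]
        simp [φ]
      have h1 := congrArg Subtype.val (key ⟨m.1⁻¹ * w * m.1,
        N.mul_mem (N.mul_mem (N.inv_mem m.2) hw) m.2⟩)
      simp only [MulAut.conjNormal_apply, Subgroup.coe_mul, InvMemClass.coe_inv] at h1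
      calc x * m.1⁻¹ * w = (x * (m.1⁻¹ * w * m.1) * x⁻¹) * (x * m.1⁻¹) := by group
        _ = w * (x * m.1⁻¹) := by rw [h1]; group
    rw [mul_inv_eq_one] at hxm
    rw [hxm]; exact m.2
  have hNtop : N = ⊤ := by
    by_contra hne
    obtain ⟨hnn, M, ⟨hM, hSM⟩, huniq⟩ := hX S
    obtain ⟨M1, hM1, hNM1⟩ := (eq_top_or_exists_le_coatom N).resolve_left hne
    have hnorm : Subgroup.normalizer ((S : Subgroup X) : Set X) ≠ ⊤ :=
      fun h => hnn (Subgroup.normalizer_eq_top_iff.1 h)
    obtain ⟨M2, hM2, hNM2⟩ := (eq_top_or_exists_le_coatom _).resolve_left hnorm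
    have e1 := huniq M1 ⟨hM1, hSN.trans hNM1⟩
    have e2 := huniq M2 ⟨hM2, Subgroup.le_normalizer.trans hNM2⟩
    have hF' := Sylow.normalizer_sup_eq_top (S.subtype hSN)
    rw [show ((S.subtype hSN : Sylow 3 N) : Subgroup N).map N.subtype = (S : Subgroup X) by
      rw [Sylow.coe_subtype, Subgroup.subgroupOf_map_subtype, inf_eq_left.2 hSN]] at hF'
    exact hM.1 (top_le_iff.1 (hF' ▸ sup_le (e2 ▸ hNM2) (e1 ▸ hNM1)))
  refine ⟨hNtop, ?_⟩
  let f : X ≃* alternatingGroup (Fin n) :=
    (Subgroup.topEquiv.symm.trans (MulEquiv.subgroupCongr hNtop.symm)).trans e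
  let T : Sylow 3 (alternatingGroup (Fin n)) := Sylow.mapSurjective (f := f.toMonoidHom) f.surjective S
  refine ThreeMin.degree_of_unique T hn ?_
  obtain ⟨-, M, ⟨hM, hSM⟩, huniq⟩ := hX S
  let O : Subgroup X ≃o Subgroup (alternatingGroup (Fin n)) := f.mapSubgroup
  have hT : (T : Subgroup (alternatingGroup (Fin n))) = O S := Sylow.coe_mapSurjective _ _
  refine ⟨O M, ⟨(O.isCoatom_iff M).2 hM, hT ▸ O.monotone hSM⟩, fun M' hM' => ?_⟩
  obtain ⟨M'', rfl⟩ := O.surjective M'
  rw [huniq M'' ⟨(O.isCoatom_iff M'').1 hM'.1, O.le_iff_le.1 (hT ▸ hM'.2)⟩]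

end Cfsg.Agent.H18
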